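import Cfsg.Agent.Lib.TwoConjBound.Basic
import Cfsg.Agent.Lib.SL2Unipotent.Basic
import Cfsg.Agent.Lib.GL.Basic
import Cfsg.Agent.Lib.Zsigmondy.Basic

/-!
In `SL₂` and `PSL₂` over a field of `p ^ n` elements two conjugates of any element of order `p`
generate a group with an element whose order is divisible by a primitive prime power for
`p ^ (2n) - 1`; hence the bounds on faithful modules.
-/

set_option autoImplicit false

namespace Cfsg.Agent.TwoConjBound

open Matrix

variable {F : Type*} [Field F]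

local notation "SL2" => Matrix.SpecialLinearGroup (Fin 2) F
local notation "M2" => Matrix (Fin 2) (Fin 2) F

theorem sq_eq (A : SL2) : (A : M2) * (A : M2) = Matrix.trace (A : M2) • (A : M2) - 1 := by
  have hd : (A : M2) 0 0 * (A : M2) 1 1 - (A : M2) 0 1 * (A : M2) 1 0 = 1 := by
    have := A.2
    rwa [Matrix.det_fin_two] at this
  ext i j
  fin_cases i <;> fin_cases j <;>
    simp [Matrix.mul_apply, Fin.sum_univ_two, Matrix.trace_fin_two] <;>
    first
    | ring1
    | linear_combination (-1 : F) * hd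

theorem pow_lin (A B : SL2) (h : Matrix.trace (A : M2) = Matrix.trace (B : M2)) (m : ℕ) :
    ∃ α β : F, (A : M2) ^ m = α • (A : M2) + β • 1 ∧ (B : M2) ^ m = α • (B : M2) + β • 1 := by
  induction m with
  | zero => exact ⟨0, 1, by simp, by simp⟩
  | succ m ih =>
    obtain ⟨α, β, hA, hB⟩ := ih
    refine ⟨α * Matrix.trace (A : M2) + β, -α, ?_, ?_⟩
    · rw [pow_succ, hA, add_mul, Matrix.smul_mul, sq_eq, Matrix.smul_mul, Matrix.one_mul]
      module
    · rw [pow_succ, hB, add_mul, Matrix.smul_mul, sq_eq, Matrix.smul_mul, Matrix.one_mul, h]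
      module

theorem orderOf_dvd_of_trace (A B : SL2) (hB : (B : M2) 1 0 ≠ 0)
    (h : Matrix.trace (A : M2) = Matrix.trace (B : M2)) : orderOf A ∣ orderOf B := by
  obtain ⟨α, β, hA, hB'⟩ := pow_lin A B h (orderOf B)
  rw [← Matrix.SpecialLinearGroup.coe_pow, pow_orderOf_eq_one,
    Matrix.SpecialLinearGroup.coe_one] at hB'
  have hα : α = 0 := by
    have := congrFun (congrFun hB' 1) 0
    simpa [hB] using this
  have hβ : β = 1 := by
    have := congrFun (congrFun hB' 0) 0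
    simpa [hα] using this.symm
  apply orderOf_dvd_of_pow_eq_one
  apply Subtype.ext
  rw [Matrix.SpecialLinearGroup.coe_pow, hA, hα, hβ, Matrix.SpecialLinearGroup.coe_one]
  simp

variable {p : ℕ} [Fact p.Prime] [CharP F p]

theorem exists_pair {u : SL2} (hu : orderOf u = p) {A : SL2} {m : ℕ} (hodd : Odd m) (hm1 : 1 < m)
    (hA : orderOf A = m) :
    ∃ g : SL2, m ∣ orderOf (u * (g * u * g⁻¹)) := by
  obtain ⟨b, hb, hconj⟩ := SL2Unipotent.exists_isConj p u hu
  obtain ⟨h, hh⟩ := isConj_iff.1 hconj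
  set c := Matrix.trace (A : M2) with hc
  have hmdvd : ∀ k : ℕ, A ^ (2 * k) = 1 → m ∣ k := fun k hk => by
    rw [← orderOf_dvd_iff_pow_eq_one, hA] at hk
    exact (Nat.coprime_two_right.2 hodd).dvd_of_dvd_mul_left hk
  have hc0 : c ≠ 0 := by
    intro h0
    have h4 : A ^ (2 * 2) = 1 := by
      apply Subtype.ext
      rw [pow_mul, Matrix.SpecialLinearGroup.coe_pow, Matrix.SpecialLinearGroup.coe_pow, sq (A : M2),
        sq_eq, ← hc, h0, Matrix.SpecialLinearGroup.coe_one]
      simp [sq]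
    obtain ⟨j, rfl⟩ := hodd
    exact absurd (Nat.le_of_dvd (by norm_num) (hmdvd 2 h4)) (by omega)
  set z := c / b with hz
  have hz0 : z ≠ 0 := div_ne_zero hc0 hb
  let W : SL2 := ⟨!![0, -z⁻¹; z, 0], by simp [Matrix.det_fin_two, hz0]⟩
  have hW : W * SL2Unipotent.uv b 1 0 * W⁻¹ = SL2Unipotent.uv b 0 z := by
    rw [mul_inv_eq_iff_eq_mul]
    exact SL2Unipotent.uv_conj b 0 z W (by simp [W]) (by simp [W])
  set P : SL2 := SL2Unipotent.uv b 1 0 * SL2Unipotent.uv b 0 z with hP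
  set N : SL2 := -(A * A) with hN
  have htr : Matrix.trace (N : M2) = Matrix.trace (P : M2) := by
    have hAA : Matrix.trace ((A : M2) * (A : M2)) = c ^ 2 - 2 := by
      rw [sq_eq, Matrix.trace_sub, Matrix.trace_smul, Matrix.trace_one, ← hc]
      simp [sq]
    rw [hN, Matrix.SpecialLinearGroup.coe_neg, Matrix.trace_neg, Matrix.SpecialLinearGroup.coe_mul,
      hAA, hP, Matrix.SpecialLinearGroup.coe_mul]
    simp [SL2Unipotent.uv, Matrix.trace_fin_two, Matrix.mul_apply, Fin.sum_univ_two, hz]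
    field_simp
    ring
  have hP10 : (P : M2) 1 0 ≠ 0 := by
    rw [hP, Matrix.SpecialLinearGroup.coe_mul]
    simp [SL2Unipotent.uv, Matrix.mul_apply, Fin.sum_univ_two, hb, hz0]
  have hord : m ∣ orderOf P := by
    refine dvd_trans (hmdvd' hmdvd hodd N rfl) (orderOf_dvd_of_trace N P hP10 htr)
  refine ⟨h * W * h⁻¹, ?_⟩
  have he : u * (h * W * h⁻¹ * u * (h * W * h⁻¹)⁻¹) = MulAut.conj h P := by
    rw [MulAut.conj_apply, hP, ← hW, ← hh]
    group
  rw [he, MulEquiv.orderOf_eq]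
  exact hord
where
  hmdvd' {A : SL2} {m : ℕ} (hmdvd : ∀ k : ℕ, A ^ (2 * k) = 1 → m ∣ k) (hodd : Odd m) (N : SL2)
      (hN : N = -(A * A)) : m ∣ orderOf N := by
    have hk : A ^ (2 * (2 * orderOf N)) = 1 := by
      have h1 : N ^ (2 * orderOf N) = 1 := by rw [mul_comm, pow_mul, pow_orderOf_eq_one, one_pow]
      rw [hN, (even_two_mul _).neg_pow] at h1
      rw [hN, pow_mul, sq]
      exact h1
    exact (Nat.coprime_two_right.2 hodd).dvd_of_dvd_mul_left (hmdvd _ hk)

section Finite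

variable [Fintype F]

theorem exists_orderOf_prime {r : ℕ} (hr : r.Prime) (h : r ∣ Fintype.card F ^ 2 - 1) :
    ∃ A : SL2, orderOf A = r := by
  classical
  haveI := Fact.mk hr
  refine exists_prime_orderOf_dvd_card' r ?_
  rw [GL.card_SL2 (F := F)]
  exact h.mul_left _

theorem exists_order_nine (h2 : p = 2) (h8 : Fintype.card F = 8) : ∃ A : SL2, orderOf A = 3 ^ (1 + 1) := by
  subst h2
  have htwo : (2 : F) = 0 := CharTwo.two_eq_zero
  obtain ⟨t, ht⟩ : ∃ t : F, t ^ 3 + t + 1 = 0 := by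
    classical
    obtain ⟨x, -, hx⟩ := Finset.exists_mem_notMem_of_card_lt_card
      (s := ({0, 1} : Finset F)) (t := Finset.univ)
      (lt_of_le_of_lt Finset.card_le_two (by rw [Finset.card_univ, h8]; norm_num))
    simp only [Finset.mem_insert, Finset.mem_singleton, not_or] at hx
    have h7 : x ^ 7 = 1 := by simpa [h8] using FiniteField.pow_card_sub_one_eq_one x hx.1
    have h0 : (x - 1) * ((x ^ 3 + x + 1) * (x ^ 3 + x ^ 2 + 1)) = 0 := by
      linear_combination h7 + (x ^ 4 - x ^ 3) * htwo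
    rcases mul_eq_zero.1 h0 with h | h
    · exact absurd (sub_eq_zero.1 h) hx.2
    rcases mul_eq_zero.1 h with h | h
    · exact ⟨x, h⟩
    · refine ⟨x⁻¹, ?_⟩
      have := hx.1
      field_simp
      linear_combination h
  let A : SL2 := ⟨!![0, 1; 1, t], by
    rw [Matrix.det_fin_two_of]; linear_combination (-1 : F) * htwo⟩
  have h3 : ((A ^ 3 : SL2) : M2) = !![t, 1 + t ^ 2; 1 + t ^ 2, t + t * (1 + t ^ 2)] := by
    rw [Matrix.SpecialLinearGroup.coe_pow, pow_succ, pow_succ, pow_one]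
    ext i j
    fin_cases i <;> fin_cases j <;> simp [A, Matrix.mul_apply, Fin.sum_univ_two] <;> ring
  have htr : Matrix.trace ((A ^ 3 : SL2) : M2) = -1 := by
    rw [h3, Matrix.trace_fin_two_of]
    linear_combination ht + t * htwo
  refine ⟨A, orderOf_eq_prime_pow ?_ ?_⟩
  · intro h
    rw [pow_one] at h
    rw [h, Matrix.SpecialLinearGroup.coe_one, Matrix.trace_one] at htr
    simp only [Fintype.card_fin, Nat.cast_ofNat] at htr
    exact one_ne_zero (neg_eq_zero.1 (htr.symm.trans htwo))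
  · have hB : ∀ B : SL2, Matrix.trace (B : M2) = -1 → B ^ 3 = 1 := fun B hB => by
      apply Subtype.ext
      rw [Matrix.SpecialLinearGroup.coe_pow, pow_succ, sq, sq_eq, hB, Matrix.sub_mul,
        Matrix.smul_mul, Matrix.one_mul, sq_eq, hB, Matrix.SpecialLinearGroup.coe_one]
      module
    rw [show 3 ^ (1 + 1) = 3 * 3 by norm_num, pow_mul]
    exact hB _ htr

/-- A primitive prime power for `p ^ (2n) - 1`, realised by the order of an element. -/
theorem exists_primitive {n : ℕ} (hn : 2 ≤ n) (hF : Fintype.card F = p ^ n) :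
    ∃ r e : ℕ, r.Prime ∧ r ≠ p ∧ r ≠ 2 ∧
      (∀ k : ℕ, 0 < k → k < 2 * n → ¬ r ^ (e + 1) ∣ p ^ k - 1) ∧
      ∃ A : SL2, orderOf A = r ^ (e + 1) := by
  have hp : p.Prime := Fact.out
  by_cases h6 : p = 2 ∧ n = 3
  · obtain ⟨h2, rfl⟩ := h6
    refine ⟨3, 1, Nat.prime_three, by omega, by norm_num, fun k hk hk' => ?_,
      exists_order_nine h2 (by rw [hF, h2]; norm_num)⟩
    subst h2
    interval_cases k <;> norm_num
  obtain ⟨r, hr, hd, hprim⟩ := Zsigmondy.exists_primitive_prime_divisor p (2 * n) hp.one_lt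
    (by omega) (fun h => h6 ⟨h.1, by omega⟩) (fun h => by omega)
  have hrp : r ≠ p := by
    rintro rfl
    have h1 : r ∣ r ^ (2 * n) := dvd_pow_self r (by omega)
    have h3 := Nat.dvd_sub h1 hd
    rw [Nat.sub_sub_self (Nat.one_le_pow _ _ hp.pos)] at h3
    exact hp.one_lt.ne' (Nat.dvd_one.1 h3)
  refine ⟨r, 0, hr, hrp, ?_, by simpa using hprim, ?_⟩
  · rintro rfl
    refine hprim 1 one_pos (by omega) ?_
    rw [pow_one]
    rcases hp.eq_two_or_odd with h | h
    · exact absurd h.symm hrp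
    · omega
  · rw [zero_add, pow_one]
    exact exists_orderOf_prime hr (by rw [hF, ← pow_mul, mul_comm]; exact hd)

end Finite

/-- The property of `Q` used for the bounds. -/
def HasPairs (p N : ℕ) (Q : Type*) [Group Q] : Prop :=
  ∀ u : Q, orderOf u = p → ∃ (g : Q) (r e : ℕ), r.Prime ∧ r ≠ p ∧
    (∀ k : ℕ, 0 < k → k < N → ¬ r ^ (e + 1) ∣ p ^ k - 1) ∧
    r ^ (e + 1) ∣ orderOf (u * (g * u * g⁻¹))

theorem hasPairs_SL2 [Fintype F] {n : ℕ} (hn : 2 ≤ n) (hF : Fintype.card F = p ^ n) :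
    HasPairs p (2 * n) SL2 := by
  intro u hu
  obtain ⟨r, e, hr, hrp, hr2, hprim, A, hA⟩ := exists_primitive (F := F) hn hF
  obtain ⟨g, hg⟩ := exists_pair hu ((hr.odd_of_ne_two hr2).pow) (Nat.one_lt_pow (by omega) hr.one_lt) hA
  exact ⟨g, r, e, hr, hrp, hprim, hg⟩

theorem sq_eq_one_of_mem_center {z : SL2} (hz : z ∈ Subgroup.center SL2) : z ^ 2 = 1 := by
  obtain ⟨c, hc, hz'⟩ := Matrix.SpecialLinearGroup.mem_center_iff.1 hz
  apply Subtype.ext
  rw [Matrix.SpecialLinearGroup.coe_pow, ← hz', ← map_pow,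
    Matrix.SpecialLinearGroup.coe_one]
  simp only [Fintype.card_fin] at hc
  rw [hc, map_one]

theorem hasPairs_PSL2 [Fintype F] {n : ℕ} (hn : 2 ≤ n) (hF : Fintype.card F = p ^ n) :
    HasPairs p (2 * n) (Matrix.ProjectiveSpecialLinearGroup (Fin 2) F) := by
  have hp : p.Prime := Fact.out
  intro u hu
  obtain ⟨a₀, rfl⟩ := QuotientGroup.mk'_surjective (Subgroup.center SL2) u
  set π := QuotientGroup.mk' (Subgroup.center SL2) with hπ
  have hker : ∀ x : SL2, π x = 1 → x ^ 2 = 1 := fun x hx =>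
    sq_eq_one_of_mem_center ((QuotientGroup.eq_one_iff x).1 hx)
  obtain ⟨a, ha, hap⟩ : ∃ a, π a = π a₀ ∧ a ^ p = 1 := by
    have h1 : π (a₀ ^ p) = 1 := by rw [map_pow, ← hu]; exact pow_orderOf_eq_one _
    rcases hp.eq_two_or_odd' with h2 | hodd
    · refine ⟨a₀, rfl, ?_⟩
      subst h2
      have hz := (QuotientGroup.eq_one_iff _).1 h1
      obtain ⟨c, hc, hz'⟩ := Matrix.SpecialLinearGroup.mem_center_iff.1 hz
      simp only [Fintype.card_fin] at hc
      have hc1 : c = 1 := by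
        have : (c - 1) ^ 2 = 0 := by rw [sub_pow_char, hc, one_pow, sub_self]
        exact sub_eq_zero.1 (eq_zero_of_pow_eq_zero this)
      apply Subtype.ext
      rw [← hz', hc1, map_one, Matrix.SpecialLinearGroup.coe_one]
    · refine ⟨a₀ ^ (p + 1), ?_, ?_⟩
      · rw [map_pow, pow_succ, ← map_pow, h1, one_mul]
      · rw [← pow_mul, mul_comm, pow_mul]
        obtain ⟨j, hj⟩ := hodd
        rw [hj, show 2 * j + 1 + 1 = 2 * (j + 1) by ring, pow_mul, ← hj, hker _ h1, one_pow]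
  have hao : orderOf a = p := by
    refine orderOf_eq_prime hap fun h => ?_
    rw [← ha, h, map_one, orderOf_one] at hu
    exact hp.one_lt.ne hu
  obtain ⟨r, e, hr, hrp, hr2, hprim, A, hA⟩ := exists_primitive (F := F) hn hF
  obtain ⟨g, hd⟩ := exists_pair hao ((hr.odd_of_ne_two hr2).pow) (Nat.one_lt_pow (by omega) hr.one_lt) hA
  refine ⟨π g, r, e, hr, hrp, hprim, ?_⟩
  rw [← ha, ← map_inv, ← map_mul, ← map_mul, ← map_mul]
  set y := a * (g * a * g⁻¹)
  have h2 : y ^ (orderOf (π y) * 2) = 1 := by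
    rw [pow_mul]; exact hker _ (by rw [map_pow, pow_orderOf_eq_one])
  have hd2 : r ^ (e + 1) ∣ orderOf (π y) * 2 := hd.trans (orderOf_dvd_of_pow_eq_one h2)
  refine (Nat.Coprime.pow_left (e + 1) ?_).dvd_of_dvd_mul_right hd2
  exact (Nat.coprime_primes hr Nat.prime_two).2 hr2

/-- The bounds from the pair property of a `p'`-kernel image. -/
theorem bounds {G : Type*} [Group G] [Finite G] {V H : Subgroup G}
    (hV : Cfsg.IsElementaryAbelian p V) (hHV : H ≤ Subgroup.normalizer (V : Set G))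
    (hf : H ⊓ Subgroup.centralizer (V : Set G) = ⊥) {Q : Type*} [Group Q] {n : ℕ}
    (hQ : 2 ≤ n → HasPairs p (2 * n) Q) (f : ↥H →* Q) (hfs : Function.Surjective f)
    (hker : (Nat.card ↥f.ker).Coprime p) (hn : n ≠ 0) {s : G} (hs : s ∈ H)
    (hso : ∃ k, orderOf s = p ^ k) (hs1 : s ≠ 1) :
    p ^ (2 * n) ≤ Nat.card ↥V ∧ p ^ n ≤ (V ⊓ Subgroup.centralizer ({s} : Set G)).relIndex V := by
  have hp : p.Prime := Fact.out
  obtain ⟨k, hk⟩ := hso
  have hk0 : k ≠ 0 := fun h => hs1 (orderOf_eq_one_iff.1 (by rw [hk, h, pow_zero]))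
  set t := s ^ p ^ (k - 1) with ht
  have hto : orderOf t = p := by
    rw [ht, orderOf_pow_of_dvd (pow_pos hp.pos _).ne' (hk ▸ pow_dvd_pow p (by omega)), hk,
      Nat.pow_div (by omega) hp.pos, show k - (k - 1) = 1 by omega, pow_one]
  have hle : (V ⊓ Subgroup.centralizer ({t} : Set G)).relIndex V ≤
      (V ⊓ Subgroup.centralizer ({s} : Set G)).relIndex V := by
    refine Nat.le_of_dvd (Nat.pos_of_ne_zero Subgroup.FiniteIndex.index_ne_zero) ?_
    refine Subgroup.relIndex_dvd_of_le_left V (inf_le_inf_left _ fun x hx => ?_)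
    rw [Subgroup.mem_centralizer_singleton_iff] at hx ⊢
    exact (Commute.pow_right hx _)
  have htH : t ∈ H := pow_mem hs _
  suffices p ^ (2 * n) ≤ Nat.card ↥V ∧
      p ^ n ≤ (V ⊓ Subgroup.centralizer ({t} : Set G)).relIndex V from
    ⟨this.1, this.2.trans hle⟩
  by_cases hn2 : 2 ≤ n
  · have hord : orderOf (f ⟨t, htH⟩) = p := by
      refine ((Nat.dvd_prime hp).1 ((orderOf_map_dvd f _).trans
        (by rw [Subgroup.orderOf_mk, hto]))).resolve_left fun h => ?_
      have h1 : (⟨t, htH⟩ : ↥H) ∈ f.ker := orderOf_eq_one_iff.1 h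
      have h2 := Subgroup.orderOf_dvd_natCard f.ker h1
      rw [Subgroup.orderOf_mk, hto] at h2
      exact (hp.coprime_iff_not_dvd.1 hker.symm) h2
    obtain ⟨g, r, e, hr, hrp, hprim, hd⟩ := hQ hn2 _ hord
    obtain ⟨g', rfl⟩ := hfs g
    have hd' : r ^ (e + 1) ∣ orderOf (t * ((g' : G) * t * (g' : G)⁻¹)) := by
      rw [← map_inv, ← map_mul, ← map_mul, ← map_mul] at hd
      refine (hd.trans (orderOf_map_dvd f _)).trans (dvd_of_eq ?_)
      rw [← Subgroup.orderOf_coe]
      rfl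
    have hb := bound hV hHV hf htH g'.2 (mul_mem (Subgroup.subset_closure (Or.inl rfl))
      (Subgroup.subset_closure (Or.inr rfl))) hr hrp hd' hprim
    refine ⟨hb.1, ?_⟩
    rw [mul_comm, pow_mul] at hb
    exact (Nat.pow_le_pow_iff_left two_ne_zero).1 hb.2
  · have hn1 : n = 1 := by omega
    subst hn1
    rw [mul_one, pow_one]
    exact base_bound hV hHV hf htH hto

end Cfsg.Agent.TwoConjBound
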