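import Cfsg.Agent.Lib.TwoConjBound.U3Frame
import Cfsg.Agent.Lib.TwoConjBound.SL2

/-!
In `PSU₃(q)` a central element of order `p` of a Sylow `p`-subgroup has three conjugates whose
product has order divisible by a primitive prime divisor of `q ^ 6 - 1`.
-/

set_option autoImplicit false

namespace Cfsg.Agent.TwoConjBound.U3

open Matrix Polynomial
open Cfsg.Agent.Forms (qEnd qEnd_apply qEnd_qEnd one_lt_q)

variable {F : Type*} [Field F] [Fintype F] {q : ℕ} (hF : Fintype.card F = q ^ 2)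

local notation "V3" => Fin 3 → F
local notation "M3" => Matrix (Fin 3) (Fin 3) F
local notation "h" => Cfsg.hermForm 3 F q
local notation "σ" => qEnd hF
set_option quotPrecheck false in
local notation "SU3" => ↥(Cfsg.SU 3 F q)

/-! ### The characteristic polynomial -/

omit [Fintype F] in
theorem charpoly_three (A : M3) :
    A.charpoly = X ^ 3 - C A.trace * X ^ 2 + C A.adjugate.trace * X - C A.det := by
  rw [Matrix.charpoly, Matrix.det_fin_three, Matrix.det_fin_three, Matrix.trace_fin_three,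
    Matrix.trace_fin_three, Matrix.adjugate_fin_three]
  simp [Matrix.charmatrix_apply]
  ring

include hF in
theorem trace_adjugate (g : SU3) : (mat g).adjugate.trace = σ (mat g).trace := by
  have hinv : mat g * mat g⁻¹ = 1 := by rw [← mat_mul, mul_inv_cancel, mat_one]
  have hadj : (mat g).adjugate = mat g⁻¹ := by
    have h1 := Matrix.adjugate_mul (mat g)
    rw [det_mat, one_smul] at h1
    calc (mat g).adjugate = (mat g).adjugate * (mat g * mat g⁻¹) := by rw [hinv, mul_one]
      _ = mat g⁻¹ := by rw [← mul_assoc, h1, one_mul]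
  have key : ∀ i, (mat g⁻¹) i i = σ ((mat g) i i) := by
    intro i
    have h1 := preserves g (mat g⁻¹ *ᵥ Pi.single i 1) (Pi.single i 1)
    rw [inv_mulVec] at h1
    have e1 : h (mat g⁻¹ *ᵥ Pi.single i 1) (Pi.single i 1) = (mat g⁻¹) i i := by
      rw [h_apply hF, Matrix.mulVec_single_one]
      fin_cases i <;> simp
    have e2 : h (Pi.single i 1) (mat g *ᵥ Pi.single i 1) = σ ((mat g) i i) := by
      rw [h_apply hF, Matrix.mulVec_single_one]
      fin_cases i <;> simp
    rw [← e1, ← h1, e2]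
  rw [hadj, Matrix.trace_fin_three, Matrix.trace_fin_three, key, key, key]
  simp

include hF in
theorem charpoly_eq_of_trace {g g' : SU3} (ht : (mat g).trace = (mat g').trace) :
    (mat g).charpoly = (mat g').charpoly := by
  rw [charpoly_three, charpoly_three, trace_adjugate hF, trace_adjugate hF, det_mat, det_mat, ht]

omit [Fintype F] in
theorem aeval_pow_sub_one {A : M3} {f : F[X]} (hf : f = minpoly F A) (N : ℕ) :
    A ^ N = 1 ↔ f ∣ X ^ N - 1 := by
  subst hf
  rw [minpoly.dvd_iff]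
  simp [sub_eq_zero]

include hF in
/-- With irreducible characteristic polynomial the order is determined by the trace. -/
theorem orderOf_eq_of_trace {g g' : SU3} (ht : (mat g).trace = (mat g').trace)
    (hirr : Irreducible (mat g).charpoly) : orderOf g = orderOf g' := by
  have hchar := charpoly_eq_of_trace hF ht
  have e1 := minpoly.eq_of_irreducible_of_monic hirr (Matrix.aeval_self_charpoly (mat g))
    (Matrix.charpoly_monic (mat g))
  have e2 := minpoly.eq_of_irreducible_of_monic (hchar ▸ hirr) (Matrix.aeval_self_charpoly (mat g'))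
    (Matrix.charpoly_monic (mat g'))
  have key : ∀ N : ℕ, g ^ N = 1 ↔ g' ^ N = 1 := by
    intro N
    have h1 : ∀ x : SU3, x ^ N = 1 ↔ mat x ^ N = 1 := fun x => by
      rw [← mat_pow, ← mat_one]; exact ⟨fun e => e ▸ rfl, mat_inj⟩
    rw [h1, h1, aeval_pow_sub_one e1, aeval_pow_sub_one e2, hchar]
  apply Nat.dvd_antisymm
  · exact orderOf_dvd_of_pow_eq_one ((key _).2 (pow_orderOf_eq_one g'))
  · exact orderOf_dvd_of_pow_eq_one ((key _).1 (pow_orderOf_eq_one g))

/-! ### Fixed vectors -/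

include hF in
theorem card_subspace (W : Submodule F V3) :
    ∃ d ≤ 3, Nat.card ↥W = (q ^ 2) ^ d ∧ (d = 3 → W = ⊤) ∧ (d = 0 → W = ⊥) := by
  have hfr : Module.finrank F V3 = 3 := by simp
  refine ⟨Module.finrank F W, (Submodule.finrank_le W).trans_eq hfr, ?_, fun hd => ?_, Submodule.finrank_eq_zero.1⟩
  · rw [Module.natCard_eq_pow_finrank (K := F), Nat.card_eq_fintype_card, hF]
  · exact Submodule.eq_top_of_finrank_eq (hd.trans hfr.symm)

/-- The fixed space of a matrix. -/
def fixSpace (A : M3) : Submodule F V3 where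
  carrier := {x | A *ᵥ x = x}
  add_mem' := fun {a b} ha hb => by
    show A *ᵥ (a + b) = a + b
    rw [mulVec_add, ha, hb]
  zero_mem' := mulVec_zero A
  smul_mem' := fun c {x} hx => by
    show A *ᵥ (c • x) = c • x
    rw [mulVec_smul, hx]

variable {r : ℕ}

include hF in
theorem no_fixed {B : SU3} (hr : r.Prime) (hB : orderOf B = r)
    (hr2 : ∀ k : ℕ, 0 < k → k < 3 → ¬ r ∣ (q ^ 2) ^ k - 1) (hrq : ¬ r ∣ q) {v : V3}
    (hv : mat B *ᵥ v = v) : v = 0 := by
  haveI := Fact.mk hr
  by_contra hv0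
  obtain ⟨d, hd, hcard, htop, hbot⟩ := card_subspace hF (fixSpace (mat B))
  have hd3 : d ≠ 3 := fun e => by
    have hall : ∀ x, mat B *ᵥ x = x := fun x => (htop e).ge (Submodule.mem_top (x := x))
    have : mat B = mat (1 : SU3) := by
      apply ext_of_mulVec_single; intro i; rw [hall, mat_one, one_mulVec]
    exact hr.one_lt.ne' (by rw [← hB, mat_inj this, orderOf_one])
  have hd0 : d ≠ 0 := fun e => hv0 ((hbot e).le (show v ∈ fixSpace (mat B) from hv))
  letI : MulAction ↥(Subgroup.zpowers B) V3 :=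
    { smul := fun g x => mat (g : SU3) *ᵥ x
      one_smul := fun x => one_mulVec x
      mul_smul := fun g g' x => show mat ((g : SU3) * (g' : SU3)) *ᵥ x = _ from
        (mulVec_mulVec x (mat (g : SU3)) (mat (g' : SU3))).symm }
  have hP : IsPGroup r ↥(Subgroup.zpowers B) :=
    IsPGroup.of_card (n := 1) (by rw [Nat.card_zpowers, hB, pow_one])
  have hmod := hP.card_modEq_card_fixedPoints V3
  have hfp : Nat.card ↥(MulAction.fixedPoints ↥(Subgroup.zpowers B) V3) = (q ^ 2) ^ d := by
    rw [← hcard]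
    refine Nat.card_congr (Equiv.subtypeEquivRight fun x => ?_)
    constructor
    · intro hx
      exact hx ⟨B, Subgroup.mem_zpowers B⟩
    · intro hx g
      have hst : B ∈ ({ carrier := {u : SU3 | mat u *ᵥ x = x}
                        one_mem' := one_mulVec x
                        mul_mem' := fun {a b} ha hb => show mat (a * b) *ᵥ x = x by
                          rw [mat_mul, ← mulVec_mulVec, hb, ha]
                        inv_mem' := fun {a} ha => show mat a⁻¹ *ᵥ x = x by
                          conv_lhs => rw [← ha, mulVec_mulVec, ← mat_mul, inv_mul_cancel, mat_one,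
                            one_mulVec] } : Subgroup SU3) := hx
      exact Subgroup.zpowers_le.2 hst g.2
  rw [hfp, Nat.card_fun, Nat.card_eq_fintype_card, hF, Nat.card_fin] at hmod
  have hd2 := (Nat.modEq_iff_dvd' (Nat.pow_le_pow_right (pow_pos (by
    have := one_lt_q hF; omega) 2) hd)).1 hmod.symm
  rw [show (q ^ 2) ^ 3 - (q ^ 2) ^ d = (q ^ 2) ^ d * ((q ^ 2) ^ (3 - d) - 1) by
    rw [Nat.mul_sub, ← pow_add, Nat.add_sub_cancel' hd, mul_one]] at hd2
  rcases hr.dvd_mul.1 hd2 with h1 | h1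
  · exact hrq (hr.dvd_of_dvd_pow (hr.dvd_of_dvd_pow h1))
  · exact hr2 (3 - d) (by omega) (by omega) h1

include hF in
theorem irreducible_charpoly {A : SU3} (hr : r.Prime) (hA : orderOf A = r)
    (hr2 : ∀ k : ℕ, 0 < k → k < 3 → ¬ r ∣ (q ^ 2) ^ k - 1) (hrq : ¬ r ∣ q) :
    Irreducible (mat A).charpoly := by
  have hdeg : (mat A).charpoly.natDegree = 3 := by rw [Matrix.charpoly_natDegree_eq_dim]; simp
  refine (Polynomial.irreducible_iff_roots_eq_zero_of_degree_le_three (by omega) (by omega)).2 ?_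
  refine Multiset.eq_zero_of_forall_notMem fun l hl => ?_
  have hroot := (Polynomial.mem_roots (Matrix.charpoly_monic _).ne_zero).1 hl
  rw [Polynomial.IsRoot, Matrix.eval_charpoly] at hroot
  obtain ⟨v, hv0, hv⟩ := Matrix.exists_mulVec_eq_zero_iff.2 hroot
  have hAv : mat A *ᵥ v = l • v := by
    rw [sub_mulVec, sub_eq_zero] at hv
    rw [← hv, Matrix.scalar_apply]
    ext i
    simp [Matrix.mulVec_diagonal]
  have hl0 : l ≠ 0 := by
    rintro rfl
    rw [zero_smul] at hAv
    exact hv0 (Matrix.eq_zero_of_mulVec_eq_zero (by rw [det_mat]; exact one_ne_zero) hAv)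
  have hpow : ∀ k : ℕ, mat (A ^ k) *ᵥ v = l ^ k • v := by
    intro k
    induction k with
    | zero => rw [pow_zero, mat_one, one_mulVec, pow_zero, one_smul]
    | succ k ih => rw [pow_succ, mat_mul, ← mulVec_mulVec, hAv, mulVec_smul, ih, smul_smul, ← pow_succ']
  have hcop : r.Coprime (Fintype.card F - 1) := by
    rw [hr.coprime_iff_not_dvd, hF]
    simpa using hr2 1 one_pos (by norm_num)
  refine hv0 (no_fixed hF hr (B := A ^ (Fintype.card F - 1)) ?_ hr2 hrq
    (by rw [hpow, FiniteField.pow_card_sub_one_eq_one l hl0, one_smul]))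
  rw [← hA] at hcop ⊢
  exact hcop.orderOf_pow

include hF in
theorem trace_ne_conj {A : SU3} (hr : r.Prime) (hA : orderOf A = r)
    (hr2 : ∀ k : ℕ, 0 < k → k < 3 → ¬ r ∣ (q ^ 2) ^ k - 1) (hrq : ¬ r ∣ q) :
    σ (mat A).trace ≠ (mat A).trace := by
  intro e
  have hirr := irreducible_charpoly hF hr hA hr2 hrq
  have hdeg : (mat A).charpoly.natDegree = 3 := by rw [Matrix.charpoly_natDegree_eq_dim]; simp
  have h0 := (Polynomial.irreducible_iff_roots_eq_zero_of_degree_le_three (by omega) (by omega)).1 hirr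
  have h1 : (1 : F) ∈ (mat A).charpoly.roots := by
    rw [Polynomial.mem_roots (Matrix.charpoly_monic _).ne_zero, Polynomial.IsRoot, charpoly_three,
      trace_adjugate hF, det_mat, e]
    simp
  rw [h0] at h1
  simp at h1

/-! ### Three transvections with given trace -/

include hF in
theorem solve {p : ℕ} [Fact p.Prime] [CharP F p] {T : F} (hT : σ T ≠ T) :
    ∃ R u w : F, σ R = R ∧ σ u = u ∧ σ w = w ∧ u ≠ 0 ∧ w ≠ 0 ∧
      u * w * (u + w - R) = (T - R) * (σ T - R) := by
  classical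
  let K : Subfield F :=
    { carrier := {x | σ x = x}
      mul_mem' := fun {a b} ha hb => show σ (a * b) = a * b by rw [map_mul, ha, hb]
      one_mem' := map_one σ
      add_mem' := fun {a b} ha hb => show σ (a + b) = a + b by rw [map_add, ha, hb]
      zero_mem' := map_zero σ
      neg_mem' := fun {a} ha => show σ (-a) = -a by rw [map_neg, ha]
      inv_mem' := fun a ha => show σ a⁻¹ = a⁻¹ by rw [map_inv₀, ha] }
  haveI : CharP K p := K.subtype.charP K.subtype.injective p
  set t : K := ⟨T + σ T, show σ (T + σ T) = _ by rw [map_add, qEnd_qEnd hF, add_comm]⟩ with ht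
  set n : K := ⟨T * σ T, show σ (T * σ T) = _ by rw [map_mul, qEnd_qEnd hF, mul_comm]⟩ with hn
  have hnoroot : ∀ R : K, R ^ 2 - t * R + n ≠ 0 := by
    intro R hR
    have h1 : (T - (R : F)) * (σ T - (R : F)) = 0 := by
      have := congrArg (fun x : K => (x : F)) hR
      push_cast [ht, hn] at this
      linear_combination this
    rcases mul_eq_zero.1 h1 with e | e
    · exact hT (by rw [sub_eq_zero.1 e]; exact R.2)
    · have e1 := congrArg σ (sub_eq_zero.1 e)
      rw [qEnd_qEnd hF, R.2] at e1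
      exact hT ((sub_eq_zero.1 e).trans e1.symm)
  obtain ⟨R, u, w, hu, hw, heq⟩ : ∃ R u w : K, u ≠ 0 ∧ w ≠ 0 ∧
      u * w * (u + w - R) = R ^ 2 - t * R + n := by
    rcases (Fact.out : p.Prime).eq_two_or_odd with h2 | hodd
    · haveI : CharP K 2 := h2 ▸ ‹CharP K p›
      obtain ⟨w, hw⟩ : IsSquare ((1 : K) ^ 2 - t * 1 + n) :=
        FiniteField.isSquare_of_char_two (ringChar.eq K 2) _
      refine ⟨1, 1, w, one_ne_zero, fun e => hnoroot 1 (by rw [hw, e, mul_zero]), ?_⟩
      rw [hw]; ring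
    · have h2F : (2 : K) ≠ 0 := by
        intro e
        have h2 := (CharP.cast_eq_zero_iff K p 2).1 (by exact_mod_cast e)
        have := Nat.le_of_dvd (by norm_num) h2
        have := (Fact.out : p.Prime).two_le
        omega
      have h4 : (4 : K) ≠ 0 := by
        rw [show (4 : K) = 2 * 2 by norm_num]; exact mul_ne_zero h2F h2F
      letI : Fintype K := Fintype.ofFinite K
      obtain ⟨w, k, hwk⟩ := FiniteField.exists_root_sum_quadratic
        (R := K) (f := Polynomial.C (-4 : K) * X ^ 2 + Polynomial.C (4 * t + 16) * X + Polynomial.C (t ^ 2 - 4 * n))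
        (g := Polynomial.C (-1 : K) * X ^ 2 + Polynomial.C 0 * X + Polynomial.C 0)
        (Polynomial.degree_quadratic (neg_ne_zero.2 h4))
        (Polynomial.degree_quadratic (neg_ne_zero.2 one_ne_zero))
        (FiniteField.odd_card_of_char_ne_two (by
          rw [ringChar.eq K p]; rintro rfl; norm_num at hodd))
      simp only [eval_add, eval_mul, eval_C, eval_pow, eval_X] at hwk
      set R : K := (k + 2 * w + t) / 2 with hR
      have hR2 : 2 * R = k + 2 * w + t := by rw [hR]; field_simp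
      have heq : (-2) * w * (-2 + w - R) = R ^ 2 - t * R + n := by
        refine mul_left_cancel₀ h4 ?_
        linear_combination (-(2 * R) - k + 2 * w + t) * hR2 + hwk
      refine ⟨R, -2, w, neg_ne_zero.2 h2F, ?_, heq⟩
      rintro rfl
      exact hnoroot R (by rw [← heq]; ring)
  refine ⟨R, u, w, R.2, u.2, w.2, fun e => hu (Subtype.ext e), fun e => hw (Subtype.ext e), ?_⟩
  have := congrArg (fun x : K => (x : F)) heq
  push_cast [ht, hn] at this
  linear_combination this

include hF in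
/-- Any trace not in the fixed field is that of a product of three conjugates of a transvection. -/
theorem exists_triple {p : ℕ} [Fact p.Prime] [CharP F p] {δ : F} {e : V3}
    (hδ : δ + σ δ = 0) (he : h e e = 0) (hδ0 : δ ≠ 0) (he0 : e ≠ 0) {T : F} (hT : σ T ≠ T) :
    ∃ g₁ g₂ : SU3, (mat (tv hF δ e hδ he * (g₁ * tv hF δ e hδ he * g₁⁻¹) *
      (g₂ * tv hF δ e hδ he * g₂⁻¹))).trace = T := by
  obtain ⟨w, f, hf⟩ := exists_frame hF he0 he
  obtain ⟨fe, we, wf⟩ := hf.symm' hF
  have hs := isSesq hF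
  have h3 : σ (3 : F) = 3 := map_ofNat σ 3
  obtain ⟨R, u, v, hR, hu, hv, hu0, hv0, heq⟩ :=
    solve hF (p := p) (T := T - 3) (by rw [map_sub, h3]; exact fun e => hT (sub_left_inj.1 e))
  set T' := T - 3 with hT'
  have hb : u / δ + σ (u / δ) = 0 := by
    rw [map_div₀, hu, show σ δ = -δ by linear_combination hδ, div_neg, add_neg_cancel]
  have hc : v / δ + σ (v / δ) = 0 := by
    rw [map_div₀, hv, show σ δ = -δ by linear_combination hδ, div_neg, add_neg_cancel]
  set x := δ * (T' - R) / (u * v) with hx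
  have hσx : σ x = -δ * (σ T' - R) / (u * v) := by
    rw [hx, map_div₀, map_mul, map_sub, map_mul, hR, hu, hv, show σ δ = -δ by linear_combination hδ]
  obtain ⟨y, hy⟩ := exists_norm hF (c := -(x + σ x)) (by
    rw [map_neg, map_add, qEnd_qEnd hF, add_comm])
  set z : V3 := x • e + y • w + f with hz
  have hzz : h z z = 0 := by
    simp only [hz, hs.add_left, hs.add_right, hs.smul_left, hs.smul_right, hf.ee, hf.ff, hf.ef, hf.ew,
      hf.fw, hf.ww, fe, we, wf]
    linear_combination hy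
  have hze : h z e = 1 := by
    simp only [hz, hs.add_left, hs.smul_left, hf.ee, fe, we]; ring
  have hzf : h z f = x := by
    simp only [hz, hs.add_left, hs.smul_left, hf.ef, hf.ff, wf]; ring
  have hez : h e z = 1 := by rw [← h_symm hF z e, hze, map_one]
  have hfz : h f z = σ x := by rw [← h_symm hF z f, hzf]
  have hz0 : z ≠ 0 := fun e0 => by rw [e0, h_zero_left hF] at hze; exact zero_ne_one hze
  have hf0 : f ≠ 0 := fun e0 => by rw [e0, h_zero_left hF] at fe; exact zero_ne_one fe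
  obtain ⟨g₁, hg₁⟩ := isConj_iff.1 (tv_isConj hF hδ he hb hf.ff hδ0 (div_ne_zero hu0 hδ0) he0 hf0)
  obtain ⟨g₂, hg₂⟩ := isConj_iff.1 (tv_isConj hF hδ he hc hzz hδ0 (div_ne_zero hv0 hδ0) he0 hz0)
  refine ⟨g₁, g₂, ?_⟩
  rw [hg₁, hg₂, mat_mul, mat_mul, mat_tv, mat_tv, mat_tv]
  simp only [tvMat, add_mul, mul_add, one_mul, mul_one, smul_mul_assoc, mul_smul_comm,
    vecMulVec_mul_vecMulVec, trace_add, trace_smul, trace_one, trace_vecMulVec, dot_conj hF,
    dotProduct_smul, smul_mul, vecMulVec_smul, Fintype.card_fin]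
  simp only [dotProduct_comm _ (fun i => σ _), dot_conj hF, hf.ee, hf.ff, hf.ef, fe, hzz, hze, hez,
    hzf, hfz, smul_eq_mul, dotProduct_smul]
  rw [hσx, hx]
  field_simp
  linear_combination δ * heq

/-! ### Sylow centres -/

include hF in
theorem exists_fixed {p : ℕ} [Fact p.Prime] [CharP F p] {P : Subgroup SU3} (hP : IsPGroup p ↥P)
    (W : Submodule F V3) (hW : W ≠ ⊥) (hinv : ∀ g ∈ P, ∀ x ∈ W, mat g *ᵥ x ∈ W) :
    ∃ x ∈ W, x ≠ 0 ∧ ∀ g ∈ P, mat g *ᵥ x = x := by
  letI : MulAction ↥P ↥W :=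
    { smul := fun g x => ⟨mat (g : SU3) *ᵥ x.1, hinv _ g.2 _ x.2⟩
      one_smul := fun x => Subtype.ext (one_mulVec x.1)
      mul_smul := fun g g' x => Subtype.ext (mulVec_mulVec x.1 (mat (g : SU3)) (mat (g' : SU3))).symm }
  obtain ⟨d, -, hcard, -, hbot⟩ := card_subspace hF W
  have hd : d ≠ 0 := fun e => hW (hbot e)
  obtain ⟨p', k, hp', hchar, hq⟩ := Forms.exists_prime_pow_q hF
  have hpp : p' = p := CharP.eq F hchar ‹_›
  subst hpp
  have hk : k ≠ 0 := by
    rintro rfl
    have := one_lt_q hF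
    rw [hq, pow_zero] at this
    exact lt_irrefl _ this
  have hdvd : p' ∣ Nat.card ↥W := by
    rw [hcard, hq, ← pow_mul, ← pow_mul]
    exact dvd_pow_self p' (by simp [hk, hd])
  have hz : (0 : ↥W) ∈ MulAction.fixedPoints ↥P ↥W := fun g =>
    Subtype.ext (mulVec_zero (mat (g : SU3)) : mat (g : SU3) *ᵥ (0 : V3) = 0)
  obtain ⟨b, hb, hb0⟩ := hP.exists_fixed_point_of_prime_dvd_card_of_fixed_point ↥W hdvd hz
  exact ⟨b.1, b.2, fun e => hb0 (Subtype.ext e.symm), fun g hg => congrArg Subtype.val (hb ⟨g, hg⟩)⟩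

/-- The orthogonal space. -/
def orth (x : V3) : Submodule F V3 where
  carrier := {y | h y x = 0}
  add_mem' := fun {a b} ha hb => by
    show h (a + b) x = 0
    rw [(isSesq hF).add_left, ha, hb, add_zero]
  zero_mem' := h_zero_left hF x
  smul_mem' := fun c {y} hy => by
    show h (c • y) x = 0
    rw [(isSesq hF).smul_left, hy, mul_zero]

include hF in
theorem exists_isotropic : ∃ e : V3, e ≠ 0 ∧ h e e = 0 := by
  obtain ⟨b, hb⟩ := exists_norm hF (c := -1) (by rw [map_neg, map_one])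
  refine ⟨![1, b, 0], fun e => one_ne_zero (α := F) (congrFun e 0), ?_⟩
  rw [h_apply hF]
  simp
  linear_combination hb

include hF in
theorem tv_pow {δ : F} {e : V3} (hδ : δ + σ δ = 0) (he : h e e = 0) (p : ℕ) [CharP F p] :
    tv hF δ e hδ he ^ p = 1 := by
  have key : ∀ k : ℕ, mat (tv hF δ e hδ he ^ k) = tvMat hF ((k : F) * δ) e := by
    intro k
    induction k with
    | zero => simp [mat_one, tvMat]
    | succ k ih =>
      rw [pow_succ, mat_mul, ih, mat_tv]
      apply ext_of_mulVec_single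
      intro i
      rw [← mulVec_mulVec, tvMat_mulVec, tvMat_mulVec, tvMat_mulVec, (isSesq hF).add_left,
        (isSesq hF).smul_left, he, add_assoc, ← add_smul]
      congr 2
      push_cast
      ring
  apply mat_inj
  rw [key, CharP.cast_eq_zero, zero_mul, mat_one]
  simp [tvMat]

include hF in
theorem exists_orderOf_eq_p (p : ℕ) [Fact p.Prime] [CharP F p] : ∃ g : SU3, orderOf g = p := by
  obtain ⟨e, he0, he⟩ := exists_isotropic hF
  obtain ⟨δ, hδ0, hδ⟩ := exists_skew hF
  exact ⟨_, orderOf_eq_prime (tv_pow hF hδ he p) (tv_ne_one hF hδ he hδ0 he0)⟩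

include hF in
theorem exists_fixed_isotropic {p : ℕ} [Fact p.Prime] [CharP F p] (S : Sylow p SU3) :
    ∃ e : V3, e ≠ 0 ∧ h e e = 0 ∧ ∀ g ∈ (S : Subgroup SU3), mat g *ᵥ e = e := by
  have hs := isSesq hF
  obtain ⟨x, -, hx0, hx⟩ := exists_fixed hF S.2 ⊤ (by simp) (fun _ _ _ _ => Submodule.mem_top)
  by_contra hno
  push_neg at hno
  have haniso : ∀ y : V3, y ≠ 0 → (∀ g ∈ (S : Subgroup SU3), mat g *ᵥ y = y) → h y y ≠ 0 :=
    fun y hy0 hy e => by obtain ⟨g, hg, hne⟩ := hno y hy0 e; exact hne (hy g hg)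
  have hinv : ∀ y : V3, (∀ g ∈ (S : Subgroup SU3), mat g *ᵥ y = y) →
      ∀ g ∈ (S : Subgroup SU3), ∀ z ∈ orth hF y, mat g *ᵥ z ∈ orth hF y := fun y hy g hg z hz => by
    show h (mat g *ᵥ z) y = 0
    conv_lhs => rw [← hy g hg]
    rw [preserves]; exact hz
  -- a nonzero vector orthogonal to two given ones
  have hperp : ∀ a b : V3, ∃ c : V3, c ≠ 0 ∧ h c a = 0 ∧ h c b = 0 := by
    intro a b
    have hdet : (Matrix.of ![(fun i => σ (a i)), (fun i => σ (b i)), 0]).det = 0 :=
      Matrix.det_eq_zero_of_row_eq_zero 2 fun j => rfl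
    obtain ⟨c, hc0, hc⟩ := Matrix.exists_mulVec_eq_zero_iff.2 hdet
    refine ⟨c, hc0, ?_, ?_⟩
    · rw [← dot_conj hF a c]; exact congrFun hc 0
    · rw [← dot_conj hF b c]; exact congrFun hc 1
  obtain ⟨y, hy', hy0, hy⟩ := exists_fixed hF S.2 (orth hF x) (fun e => by
    obtain ⟨c, hc0, hc, -⟩ := hperp x x
    exact hc0 (e.le (show c ∈ orth hF x from hc))) (hinv x hx)
  obtain ⟨z, hz', hz0, hz⟩ := exists_fixed hF S.2 (orth hF x ⊓ orth hF y) (fun e => by
    obtain ⟨c, hc0, hca, hcb⟩ := hperp x y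
    exact hc0 (e.le ⟨hca, hcb⟩)) (fun g hg w hw => ⟨hinv x hx g hg w hw.1, hinv y hy g hg w hw.2⟩)
  have hyx : h y x = 0 := hy'
  have hzx : h z x = 0 := hz'.1
  have hzy : h z y = 0 := hz'.2
  have hunit : IsUnit (cols x y z) := by
    rw [← Matrix.mulVec_injective_iff_isUnit]
    intro a b hab
    have h0 : cols x y z *ᵥ (a - b) = 0 := by rw [mulVec_sub, hab, sub_self]
    rw [cols_mulVec] at h0
    have e1 := congrArg (fun v => h v x) h0
    have e2 := congrArg (fun v => h v y) h0
    have e3 := congrArg (fun v => h v z) h0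
    simp [hs.add_left, hs.smul_left, h_zero_left hF, hyx, hzx, hzy, haniso x hx0 hx, haniso y hy0 hy,
      haniso z hz0 hz, show h x y = 0 from hs.refl y x hyx, show h x z = 0 from hs.refl z x hzx,
      show h y z = 0 from hs.refl z y hzy] at e1 e2 e3
    funext i
    fin_cases i
    exacts [sub_eq_zero.1 e1, sub_eq_zero.1 e2, sub_eq_zero.1 e3]
  obtain ⟨g, hg⟩ := exists_orderOf_eq_p hF p
  have hS : (S : Subgroup SU3) ≠ ⊥ := S.ne_bot_of_dvd_card (hg ▸ orderOf_dvd_natCard g)
  refine hS ((Subgroup.eq_bot_iff_forall _).2 fun u hu => mat_inj (hunit.mul_right_cancel ?_))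
  rw [mul_cols, hx u hu, hy u hu, hz u hu, mat_one, one_mul]

include hF in
theorem eq_tv_of_central {p : ℕ} [Fact p.Prime] [CharP F p] (S : Sylow p SU3) {s : SU3}
    (hs : s ∈ (S : Subgroup SU3)) (hc : ∀ g ∈ (S : Subgroup SU3), Commute s g) (hs1 : s ≠ 1) :
    ∃ (δ : F) (e : V3) (hδ : δ + σ δ = 0) (he : h e e = 0),
      δ ≠ 0 ∧ e ≠ 0 ∧ s = tv hF δ e hδ he := by
  have hsq := isSesq hF
  obtain ⟨e, he0, he, hfix⟩ := exists_fixed_isotropic hF S
  obtain ⟨w, f, hf⟩ := exists_frame hF he0 he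
  obtain ⟨fe, we, wf⟩ := hf.symm' hF
  let U : Subgroup SU3 :=
    { carrier := {g | mat g *ᵥ e = e ∧ ∃ c : F, mat g *ᵥ w = w + c • e}
      one_mem' := ⟨one_mulVec e, 0, by rw [mat_one, one_mulVec, zero_smul, add_zero]⟩
      mul_mem' := by
        rintro a b ⟨ha, c, hac⟩ ⟨hb, d, hbd⟩
        refine ⟨by rw [mat_mul, ← mulVec_mulVec, hb, ha], c + d, ?_⟩
        rw [mat_mul, ← mulVec_mulVec, hbd, mulVec_add, mulVec_smul, ha, hac, add_smul, add_assoc]
      inv_mem' := by
        rintro a ⟨ha, c, hac⟩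
        have h1 : mat a⁻¹ *ᵥ e = e := by
          conv_lhs => rw [← ha, mulVec_mulVec, ← mat_mul, inv_mul_cancel, mat_one, one_mulVec]
        refine ⟨h1, -c, ?_⟩
        have h2 := congrArg (mat a⁻¹ *ᵥ ·) hac
        simp only [mulVec_mulVec, ← mat_mul, inv_mul_cancel, mat_one, one_mulVec, mulVec_add,
          mulVec_smul, h1] at h2
        rw [neg_smul, ← sub_eq_add_neg, eq_sub_iff_add_eq]
        exact h2.symm }
  have hcomp : ∀ g : SU3, mat g *ᵥ e = e → mat g *ᵥ w =
      h (mat g *ᵥ w) f • e + h (mat g *ᵥ w) w • w := fun g hge => by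
    have h0 : h (mat g *ᵥ w) e = 0 := by
      conv_lhs => rw [← hge]
      rw [preserves, we]
    conv_lhs => rw [hf.expand hF (mat g *ᵥ w), h0, zero_smul, add_zero]
  have hcompf : ∀ g : SU3, mat g *ᵥ e = e → mat g *ᵥ f =
      h (mat g *ᵥ f) f • e + h (mat g *ᵥ f) w • w + f := fun g hge => by
    have h0 : h (mat g *ᵥ f) e = 1 := by
      conv_lhs => rw [← hge]
      rw [preserves, fe]
    conv_lhs => rw [hf.expand hF (mat g *ᵥ f), h0, one_smul]
  have hU : IsPGroup p ↥U := by
    intro g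
    obtain ⟨hge, c, hgw⟩ := g.2
    refine ⟨2, Subtype.ext (mat_inj ?_)⟩
    rw [Subgroup.coe_pow, mat_pow, Subgroup.coe_one, mat_one]
    set A := mat (g : SU3) with hA
    set N : M3 := A - 1 with hN
    have hNe : N *ᵥ e = 0 := by rw [hN, sub_mulVec, one_mulVec, hge, sub_self]
    have hNw : N *ᵥ w = c • e := by rw [hN, sub_mulVec, one_mulVec, hgw, add_sub_cancel_left]
    have hNf : N *ᵥ f = h (A *ᵥ f) f • e + h (A *ᵥ f) w • w := by
      rw [hN, sub_mulVec, one_mulVec]
      conv_lhs => rw [hcompf g hge]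
      rw [add_sub_cancel_right]
    have hN3 : N ^ 3 = 0 := by
      refine (hf.isUnit hF).mul_right_cancel ?_
      rw [mul_cols, zero_mul, pow_succ, pow_two, ← mulVec_mulVec, ← mulVec_mulVec, ← mulVec_mulVec,
        ← mulVec_mulVec, ← mulVec_mulVec, ← mulVec_mulVec, hNe, mulVec_zero, mulVec_zero, hNw,
        mulVec_smul, hNe, smul_zero, mulVec_zero, hNf, mulVec_add, mulVec_smul, mulVec_smul, hNe,
        hNw, smul_zero, zero_add, mulVec_smul, mulVec_smul, hNe, smul_zero, smul_zero]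
      ext i j
      fin_cases j <;> simp [cols]
    have h3 : 3 ≤ p ^ 2 := le_trans (by norm_num) (Nat.pow_le_pow_left (Fact.out : p.Prime).two_le 2)
    rw [show A = N + 1 by rw [hN, sub_add_cancel],
      add_pow_char_pow_of_commute p 2 (Commute.one_right N), pow_eq_zero_of_le h3 hN3, one_pow, zero_add]
  have hSU : (S : Subgroup SU3) ≤ U := by
    intro g hg
    refine ⟨hfix g hg, h (mat g *ᵥ w) f, ?_⟩
    set μ := h (mat g *ᵥ w) w with hμ
    have hμ1 : μ = 1 := by
      obtain ⟨j, hj⟩ := S.2 ⟨g, hg⟩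
      have hj' : g ^ p ^ j = 1 := congrArg Subtype.val hj
      have hk : ∀ k : ℕ, h (mat (g ^ k) *ᵥ w) w = μ ^ k := by
        intro k
        induction k with
        | zero => rw [pow_zero, mat_one, one_mulVec, hf.ww, pow_zero]
        | succ k ih =>
          rw [pow_succ, mat_mul, ← mulVec_mulVec, hcomp g (hfix g hg), ← hμ, mulVec_add, mulVec_smul,
            mulVec_smul, hsq.add_left, hsq.smul_left, hsq.smul_left, ih,
            hfix _ (pow_mem hg k), hf.ew, mul_zero, zero_add, pow_succ']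
      have h1 := hk (p ^ j)
      rw [hj', mat_one, one_mulVec, hf.ww] at h1
      have h2 : (μ - 1) ^ p ^ j = 0 := by rw [sub_pow_char_pow, one_pow, ← h1, sub_self]
      exact sub_eq_zero.1 (eq_zero_of_pow_eq_zero h2)
    conv_lhs => rw [hcomp g (hfix g hg), ← hμ, hμ1, one_smul]
    exact add_comm _ _
  have hUS : U = S := S.3 hU hSU
  obtain ⟨hse, c, hsw⟩ := hSU hs
  set β := h (mat s *ᵥ f) w with hβ
  set δ := h (mat s *ᵥ f) f with hδ'
  have hsf : mat s *ᵥ f = δ • e + β • w + f := hcompf s hse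
  have hβc : β = -σ c := by
    have h1 := preserves s f w
    rw [hsf, hsw, hf.fw] at h1
    simp only [hsq.add_left, hsq.add_right, hsq.smul_left, hsq.smul_right, hf.ee, hf.ew, we, hf.ww,
      hf.fw, fe] at h1
    linear_combination h1
  have hc0 : c = 0 := by
    by_contra hc0
    have key : ∀ c' : F, σ c' * c = σ c * c' := by
      intro c'
      obtain ⟨u, δ', hue, huw, huf⟩ := exists_unipotent hF hf c'
      have hu : u ∈ (S : Subgroup SU3) := hUS.le ⟨hue, c', huw⟩
      have h1 := congrArg (fun g => h (mat g *ᵥ f) f) (hc u hu).eq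
      simp only [mat_mul, ← mulVec_mulVec, huf, hsf, mulVec_add, mulVec_smul, hue, huw, hse, hsw,
        hsq.add_left, hsq.smul_left, hf.ef, hf.ff, wf, hβc] at h1
      linear_combination -h1
    refine Forms.qEnd_ne_id hF (RingHom.ext fun x => ?_)
    have h1 := key 1
    rw [map_one, one_mul, mul_one] at h1
    have h2 := key x
    rw [← h1, mul_comm c x] at h2
    exact mul_right_cancel₀ hc0 h2
  subst hc0
  rw [map_zero, neg_zero] at hβc
  rw [hβc, zero_smul, add_zero] at hsf
  rw [zero_smul, add_zero] at hsw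
  have hδ : δ + σ δ = 0 := by
    have h1 := preserves s f f
    rw [hsf, hf.ff] at h1
    simp only [hsq.add_left, hsq.add_right, hsq.smul_left, hsq.smul_right, hf.ee, hf.ef, hf.ff,
      fe] at h1
    linear_combination h1
  have hst : s = tv hF δ e hδ he := by
    apply hf.ext hF
    · rw [hse, mat_tv, tvMat_mulVec, he, mul_zero, zero_smul, add_zero]
    · rw [hsw, mat_tv, tvMat_mulVec, we, mul_zero, zero_smul, add_zero]
    · rw [hsf, mat_tv, tvMat_mulVec, fe, mul_one, add_comm]
  refine ⟨δ, e, hδ, he, ?_, he0, hst⟩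
  intro h0
  refine hs1 (hst.trans (mat_inj ?_))
  rw [mat_tv, mat_one, h0]
  simp [tvMat]

include hF in
/-- In `PSU₃` a central element of order `p` of a Sylow `p`-subgroup has three conjugates whose
product has order divisible by `r`, for `r` an element order prime to `q`, `q ^ 2 - 1`, `q ^ 4 - 1`. -/
theorem exists_triple_PSU {p : ℕ} [Fact p.Prime] [CharP F p] {r : ℕ} (hr : r.Prime) (hrq : ¬ r ∣ q)
    (hr2 : ∀ k : ℕ, 0 < k → k < 3 → ¬ r ∣ (q ^ 2) ^ k - 1) (hr3 : r ∣ Cfsg.Agent.GL.oddIndex q 3)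
    (P : Sylow p (Cfsg.PSU 3 F q)) {u : Cfsg.PSU 3 F q} (hu : orderOf u = p)
    (huP : u ∈ (P : Subgroup _)) (huc : ∀ x ∈ (P : Subgroup _), Commute u x) :
    ∃ g₁ g₂ : Cfsg.PSU 3 F q, r ∣ orderOf (u * (g₁ * u * g₁⁻¹) * (g₂ * u * g₂⁻¹)) := by
  have hp : p.Prime := Fact.out
  set π := QuotientGroup.mk' (Subgroup.center SU3) with hπ
  obtain ⟨S, hS⟩ := Sylow.mapSurjective_surjective (QuotientGroup.mk'_surjective (Subgroup.center SU3)) p P
  have hSP : (S : Subgroup SU3).map π = P := congrArg Sylow.toSubgroup hS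
  -- the centre has order prime to `p` and to `r`
  have hcard := Forms.card_center_SU (n := 3) hF (by norm_num)
  obtain ⟨p', k, hp', hchar, hqk⟩ := Forms.exists_prime_pow_q hF
  have hpp : p' = p := CharP.eq F hchar ‹_›
  have hk : k ≠ 0 := by
    rintro rfl
    have := one_lt_q hF
    rw [hqk, pow_zero] at this
    exact lt_irrefl _ this
  have hzp : (Nat.card ↥(Subgroup.center SU3)).Coprime p := by
    rw [hcard, Nat.coprime_comm, hp.coprime_iff_not_dvd]
    intro hd
    have h1 : p ∣ q := by rw [hqk, hpp]; exact dvd_pow_self p hk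
    have h2 := (Nat.dvd_add_right h1).1 (hd.trans (Nat.gcd_dvd_right 3 (q + 1)))
    exact hp.one_lt.ne' (Nat.dvd_one.1 h2)
  have hr3' : r ≠ 3 := by
    rintro rfl
    refine hr2 1 one_pos (by norm_num) ?_
    rw [pow_one]
    have h1 : ¬ (3 ∣ q) := hrq
    rcases (show q % 3 = 1 ∨ q % 3 = 2 by omega) with h2 | h2 <;>
      · have : q ^ 2 % 3 = 1 := by rw [Nat.pow_mod, h2]
        omega
  obtain ⟨t, ht, htu⟩ := (hSP.ge huP : u ∈ (S : Subgroup SU3).map π)
  have hker : ∀ x ∈ (S : Subgroup SU3), π x = 1 → x = 1 := by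
    intro x hx h1
    obtain ⟨j, hj⟩ := IsPGroup.iff_orderOf.1 S.2 ⟨x, hx⟩
    rw [Subgroup.orderOf_mk] at hj
    have h2 := Subgroup.orderOf_dvd_natCard _ ((QuotientGroup.eq_one_iff x).1 h1)
    exact orderOf_eq_one_iff.1 (Nat.eq_one_of_dvd_coprimes (hzp.pow_right j) h2 hj.dvd)
  have ht1 : t ≠ 1 := by
    rintro rfl
    rw [map_one] at htu
    rw [← htu, orderOf_one] at hu
    exact hp.one_lt.ne hu
  have htc : ∀ g ∈ (S : Subgroup SU3), Commute t g := by
    intro g hg
    refine commutatorElement_eq_one_iff_commute.1 (hker _ ?_ ?_)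
    · exact mul_mem (mul_mem (mul_mem ht hg) (inv_mem ht)) (inv_mem hg)
    · rw [map_commutatorElement, commutatorElement_eq_one_iff_commute, htu]
      exact huc _ (hSP.le ⟨g, hg, rfl⟩)
  haveI : CharP F p := by assumption
  obtain ⟨δ, e, hδ, he, hδ0, he0, rfl⟩ := eq_tv_of_central (p := p) hF S ht htc ht1
  -- an element of order `r`
  obtain ⟨Z, hZdet, hZpres, hZord, -⟩ := GL.exists_odd_torus hF (d := 3) (by decide)
  set z := ofMat Z hZdet hZpres with hz
  haveI := Fact.mk hr
  have hzord : orderOf z = GL.oddIndex q 3 := by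
    have key : ∀ N, z ^ N = 1 ↔ GL.oddIndex q 3 ∣ N := fun N => by
      rw [← hZord N]
      constructor
      · intro e1
        have := congrArg mat e1
        rwa [mat_pow, mat_one] at this
      · intro e1
        apply mat_inj
        rw [mat_pow, mat_one]; exact e1
    exact Nat.dvd_antisymm (orderOf_dvd_of_pow_eq_one ((key _).2 dvd_rfl))
      ((key _).1 (pow_orderOf_eq_one z))
  set A := z ^ (orderOf z / r) with hA'
  have hA : orderOf A = r := orderOf_pow_orderOf_div (orderOf_pos z).ne' (hzord ▸ hr3)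
  obtain ⟨g₁, g₂, hg⟩ := exists_triple hF (p := p) hδ he hδ0 he0
    (trace_ne_conj hF hr hA hr2 hrq)
  refine ⟨π g₁, π g₂, ?_⟩
  rw [← htu, ← map_inv, ← map_inv, ← map_mul, ← map_mul, ← map_mul, ← map_mul, ← map_mul, ← map_mul]
  set y := tv hF δ e hδ he * (g₁ * tv hF δ e hδ he * g₁⁻¹) * (g₂ * tv hF δ e hδ he * g₂⁻¹) with hy'
  have hy : orderOf y = r := by
    rw [← hA]
    exact (orderOf_eq_of_trace hF hg.symm (irreducible_charpoly hF hr hA hr2 hrq)).symm
  have h2 : (y ^ orderOf (π y)) ∈ Subgroup.center SU3 :=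
    (QuotientGroup.eq_one_iff _).1 (by
      show π (y ^ orderOf (π y)) = 1
      rw [map_pow, pow_orderOf_eq_one])
  have h3 : y ^ (orderOf (π y) * Nat.card ↥(Subgroup.center SU3)) = 1 := by
    rw [pow_mul]
    exact congrArg Subtype.val (pow_card_eq_one' (x := (⟨_, h2⟩ : ↥(Subgroup.center SU3))))
  have h4 : r ∣ orderOf (π y) * Nat.card ↥(Subgroup.center SU3) :=
    hy ▸ orderOf_dvd_of_pow_eq_one h3
  refine (hr.dvd_mul.1 h4).resolve_right fun hd => hr3' ?_
  exact (Nat.prime_dvd_prime_iff_eq hr Nat.prime_three).1 (hd.trans (hcard ▸ Nat.gcd_dvd_left 3 (q + 1)))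

end Cfsg.Agent.TwoConjBound.U3
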