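import Cfsg.Prelude.Def_Transfer
import Mathlib

/-!
If two conjugates of `s` generate a group with an element whose order is divisible by a prime power
`m` not dividing `p ^ k - 1` for `0 < k < N`, then `|V : C_V(s)| ^ 2 ≥ p ^ N` on a faithful
elementary abelian `p`-group `V`.
-/

set_option autoImplicit false

namespace Cfsg.Agent.TwoConjBound

open Subgroup

variable {G : Type*} [Group G] [Finite G] {p : ℕ} [Fact p.Prime]

theorem relIndex_centralizer_conj (V : Subgroup G) (s g : G) (hg : g ∈ normalizer (V : Set G)) :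
    (V ⊓ centralizer ({g * s * g⁻¹} : Set G)).relIndex V =
      (V ⊓ centralizer ({s} : Set G)).relIndex V := by
  set f : G →* G := (MulAut.conj g).toMonoidHom with hf
  have hinj : Function.Injective f := (MulAut.conj g).injective
  have hV : V.map f = V := by
    refine le_antisymm ?_ fun x hx => ?_
    · rintro _ ⟨x, hx, rfl⟩
      exact (mem_normalizer_iff.1 hg x).1 hx
    · exact ⟨g⁻¹ * x * g, (mem_normalizer_iff.1 hg _).2 (by simpa [mul_assoc] using hx),
        by simp [hf, mul_assoc]⟩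
  have hC : (centralizer ({s} : Set G)).map f = centralizer ({g * s * g⁻¹} : Set G) := by
    ext x
    rw [hf, mem_map_equiv, MulAut.conj_symm_apply, mem_centralizer_singleton_iff,
      mem_centralizer_singleton_iff]
    constructor
    · intro h
      calc x * (g * s * g⁻¹) = g * (g⁻¹ * x * g * s) * g⁻¹ := by group
        _ = g * s * g⁻¹ * x := by rw [h]; group
    · intro h
      calc g⁻¹ * x * g * s = g⁻¹ * (x * (g * s * g⁻¹)) * g := by group
        _ = s * (g⁻¹ * x * g) := by rw [h]; group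
  calc (V ⊓ centralizer ({g * s * g⁻¹} : Set G)).relIndex V
      = ((V ⊓ centralizer ({s} : Set G)).map f).relIndex (V.map f) := by
        rw [Subgroup.map_inf _ _ _ hinj, hV, hC]
    _ = (V ⊓ centralizer ({s} : Set G)).relIndex V := relIndex_map_map_of_injective _ _ hinj

/-- The fixed points of the element of order `r` in a cyclic `r`-group have co-size divisible by
the order of the group. -/
theorem dvd_card_sub (V : Subgroup G) (y : G) {r e : ℕ} (hr : r.Prime)
    (hy : orderOf y = r ^ (e + 1)) (hyV : y ∈ normalizer (V : Set G)) :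
    r ^ (e + 1) ∣ Nat.card ↥V - Nat.card ↥(V ⊓ centralizer ({y ^ r ^ e} : Set G)) := by
  classical
  set W := V ⊓ centralizer ({y ^ r ^ e} : Set G) with hW
  let α := {v : G // v ∈ V ∧ v ∉ W}
  have hle : zpowers y ≤ normalizer (V : Set G) := zpowers_le.2 hyV
  have hWinv : ∀ u ∈ zpowers y, ∀ v ∈ V, u * v * u⁻¹ ∈ W → v ∈ W := by
    rintro _ ⟨k, rfl⟩ v hv hc
    refine ⟨hv, mem_centralizer_singleton_iff.2 ?_⟩
    have h1 := mem_centralizer_singleton_iff.1 hc.2
    have hcomm : y ^ k * y ^ r ^ e = y ^ r ^ e * y ^ k :=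
      ((Commute.refl y).zpow_left k).pow_right (r ^ e)
    calc v * y ^ r ^ e = (y ^ k)⁻¹ * (y ^ k * v * (y ^ k)⁻¹ * (y ^ k * y ^ r ^ e)) := by group
      _ = (y ^ k)⁻¹ * (y ^ k * v * (y ^ k)⁻¹ * (y ^ r ^ e * y ^ k)) := by rw [hcomm]
      _ = (y ^ k)⁻¹ * ((y ^ k * v * (y ^ k)⁻¹ * y ^ r ^ e) * y ^ k) := by group
      _ = (y ^ k)⁻¹ * ((y ^ r ^ e * (y ^ k * v * (y ^ k)⁻¹)) * y ^ k) := by rw [h1]
      _ = (y ^ k)⁻¹ * y ^ r ^ e * y ^ k * v := by group
      _ = y ^ r ^ e * v := by rw [mul_assoc _ (y ^ r ^ e), ← hcomm]; group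
  letI : MulAction ↥(zpowers y) α :=
    { smul := fun u v => ⟨(u : G) * v.1 * (u : G)⁻¹, (mem_normalizer_iff.1 (hle u.2) v.1).1 v.2.1,
        fun h => v.2.2 (hWinv u u.2 v.1 v.2.1 h)⟩
      one_smul := fun v => Subtype.ext (show (1 : G) * v.1 * (1 : G)⁻¹ = v.1 by simp)
      mul_smul := fun u u' v => Subtype.ext (show ((u : G) * u') * v.1 * ((u : G) * u')⁻¹ =
        (u : G) * ((u' : G) * v.1 * (u' : G)⁻¹) * (u : G)⁻¹ by group) }
  have hfree : ∀ v : α, MulAction.stabilizer ↥(zpowers y) v = ⊥ := by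
    intro v
    rw [eq_bot_iff]
    intro u hu
    rw [Subgroup.mem_bot]
    by_contra hne
    have h1 : (u : G) * v.1 * (u : G)⁻¹ = v.1 := congrArg Subtype.val (MulAction.mem_stabilizer_iff.1 hu)
    obtain ⟨k, hk⟩ := u.2
    simp only at hk
    have hvc : v.1 ∈ centralizer ({(u : G)} : Set G) := by
      rw [mem_centralizer_singleton_iff]
      calc v.1 * (u : G) = (u : G) * v.1 * (u : G)⁻¹ * (u : G) := by rw [h1]
        _ = (u : G) * v.1 := by group
    -- the order `r` element lies in the subgroup generated by `u`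
    have hu1 : orderOf (u : G) ≠ 1 := fun h => hne (Subtype.ext (orderOf_eq_one_iff.1 h))
    have hdvd : orderOf (u : G) ∣ r ^ (e + 1) := by
      rw [← hy, ← hk]; exact orderOf_dvd_of_mem_zpowers ⟨k, rfl⟩
    obtain ⟨f, hf, hfo⟩ := (Nat.dvd_prime_pow hr).1 hdvd
    have hmem : y ^ r ^ e ∈ zpowers (u : G) := by
      have h2 : ((y ^ k) ^ (r : ℤ) ^ f) = 1 := by
        rw [hk, ← Nat.cast_pow, zpow_natCast, ← hfo, pow_orderOf_eq_one]
      rw [← zpow_mul, ← orderOf_dvd_iff_zpow_eq_one, hy] at h2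
      obtain ⟨g0, hg0, hg0o⟩ := (Nat.dvd_prime_pow hr).1
        (Int.natCast_dvd_natCast.1 ((Int.gcd_dvd_right k ((r ^ (e + 1) : ℕ) : ℤ))) :
          Int.gcd k ((r ^ (e + 1) : ℕ) : ℤ) ∣ r ^ (e + 1))
      have hg0e : g0 ≤ e := by
        by_contra hlt
        have hd : ((r ^ (e + 1) : ℕ) : ℤ) ∣ k := by
          have := Int.gcd_dvd_left k ((r ^ (e + 1) : ℕ) : ℤ)
          rw [hg0o, show g0 = e + 1 by omega] at this
          exact this
        apply hu1
        rw [← hk, orderOf_eq_one_iff, ← orderOf_dvd_iff_zpow_eq_one, hy]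
        exact hd
      have hb := Int.gcd_eq_gcd_ab k ((r ^ (e + 1) : ℕ) : ℤ)
      rw [hg0o] at hb
      have hyg : y ^ r ^ g0 ∈ zpowers (u : G) := by
        refine ⟨Int.gcdA k ((r ^ (e + 1) : ℕ) : ℤ), ?_⟩
        simp only
        rw [← hk, ← zpow_mul, ← zpow_natCast, hb, zpow_add]
        rw [(orderOf_dvd_iff_zpow_eq_one (x := y)
          (i := ((r ^ (e + 1) : ℕ) : ℤ) * Int.gcdB k ((r ^ (e + 1) : ℕ) : ℤ))).1
          (by rw [hy]; exact dvd_mul_right _ _), mul_one]
      have : y ^ r ^ e = (y ^ r ^ g0) ^ r ^ (e - g0) := by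
        rw [← pow_mul, ← pow_add, Nat.add_sub_cancel' hg0e]
      rw [this]
      exact pow_mem hyg _
    obtain ⟨j, hj⟩ := hmem
    refine v.2.2 ⟨v.2.1, mem_centralizer_singleton_iff.2 ?_⟩
    simp only at hj
    rw [← hj]
    exact (Commute.zpow_right (mem_centralizer_singleton_iff.1 hvc : Commute v.1 (u : G)) j)
  have hcard : Nat.card α = Nat.card ↥V - Nat.card ↥W := by
    have he : α ≃ ↥((V : Set G) \ (W : Set G)) := Equiv.refl _
    rw [Nat.card_congr he]
    show Set.ncard ((V : Set G) \ (W : Set G)) = _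
    rw [Set.ncard_sdiff (show (W : Set G) ⊆ V from fun x hx => hx.1) (Set.toFinite _)]
    rfl
  rw [← hcard, Nat.card_congr (MulAction.selfEquivOrbitsQuotientProd hfree), Nat.card_prod,
    Nat.card_zpowers, hy]
  exact dvd_mul_left _ _

/-- The bound. -/
theorem bound {V H : Subgroup G} (hV : Cfsg.IsElementaryAbelian p V)
    (hHV : H ≤ normalizer (V : Set G)) (hf : H ⊓ centralizer (V : Set G) = ⊥)
    {s g y : G} (hs : s ∈ H) (hg : g ∈ H) (hy : y ∈ closure ({s, g * s * g⁻¹} : Set G))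
    {r e N : ℕ} (hr : r.Prime) (hrp : r ≠ p) (hm : r ^ (e + 1) ∣ orderOf y)
    (hprim : ∀ k : ℕ, 0 < k → k < N → ¬ r ^ (e + 1) ∣ p ^ k - 1) :
    p ^ N ≤ Nat.card ↥V ∧ p ^ N ≤ ((V ⊓ centralizer ({s} : Set G)).relIndex V) ^ 2 := by
  have hp : p.Prime := Fact.out
  have hcl : closure ({s, g * s * g⁻¹} : Set G) ≤ H := by
    rw [closure_le, Set.insert_subset_iff, Set.singleton_subset_iff]
    exact ⟨hs, mul_mem (mul_mem hg hs) (inv_mem hg)⟩
  obtain ⟨z, hzmem, hzo⟩ : ∃ z ∈ closure ({s, g * s * g⁻¹} : Set G), orderOf z = r ^ (e + 1) :=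
    ⟨y ^ (orderOf y / r ^ (e + 1)), pow_mem hy _,
      orderOf_pow_orderOf_div (orderOf_pos y).ne' hm⟩
  set t := z ^ r ^ e with ht
  have ht1 : t ≠ 1 := by
    intro h
    rw [ht, ← orderOf_dvd_iff_pow_eq_one, hzo] at h
    exact absurd (Nat.le_of_dvd (pow_pos hr.pos e) h)
      (not_le.2 (Nat.pow_lt_pow_right hr.one_lt (Nat.lt_succ_self e)))
  set W := V ⊓ centralizer ({t} : Set G) with hW
  have hVp : IsPGroup p ↥V := fun v => ⟨1, Subtype.ext (by simpa using hV.2 v v.2)⟩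
  obtain ⟨a, ha⟩ := IsPGroup.iff_card.1 hVp
  obtain ⟨b, hb, hbc⟩ := (Nat.dvd_prime_pow hp).1
    (ha ▸ card_dvd_of_le (inf_le_left : W ≤ V))
  have hne : b ≠ a := by
    intro h
    have hWV : W = V := eq_of_le_of_card_ge inf_le_left (by rw [hbc, ha, h])
    refine ht1 (mem_bot.1 (hf.le ⟨hcl (pow_mem hzmem _), mem_centralizer_iff.2 fun v hv => ?_⟩))
    have hvW : v ∈ W := hWV.symm ▸ hv
    exact mem_centralizer_singleton_iff.1 hvW.2
  have hd := dvd_card_sub V z hr hzo (hHV (hcl hzmem))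
  rw [← ht, ← hW, ha, hbc, show p ^ a - p ^ b = p ^ b * (p ^ (a - b) - 1) by
    rw [Nat.mul_sub, ← pow_add, Nat.add_sub_cancel' hb, mul_one]] at hd
  have hd' : r ^ (e + 1) ∣ p ^ (a - b) - 1 :=
    (Nat.Coprime.pow (e + 1) b ((Nat.coprime_primes hr hp).2 hrp)).dvd_of_dvd_mul_left hd
  have hN : N ≤ a - b := by
    by_contra h
    exact hprim (a - b) (by omega) (by omega) hd'
  refine ⟨ha ▸ Nat.pow_le_pow_right hp.pos (by omega), ?_⟩
  set C := V ⊓ centralizer ({s} : Set G) with hC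
  set C' := V ⊓ centralizer ({g * s * g⁻¹} : Set G) with hC'
  have hCW : C ⊓ C' ≤ W := by
    rintro v ⟨⟨hvV, h1⟩, -, h2⟩
    refine ⟨hvV, mem_centralizer_singleton_iff.2 ?_⟩
    have hle : closure ({s, g * s * g⁻¹} : Set G) ≤ centralizer ({v} : Set G) := by
      rw [closure_le, Set.insert_subset_iff, Set.singleton_subset_iff]
      exact ⟨mem_centralizer_singleton_iff.2 (mem_centralizer_singleton_iff.1 h1).symm,
        mem_centralizer_singleton_iff.2 (mem_centralizer_singleton_iff.1 h2).symm⟩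
    exact (mem_centralizer_singleton_iff.1 (hle (pow_mem hzmem _))).symm
  have hi : W.relIndex V ≤ C.relIndex V ^ 2 := by
    refine le_trans ?_ (le_of_le_of_eq relIndex_inf_le
      (by rw [pow_two, hC', relIndex_centralizer_conj V s g (hHV hg)] :
        C.relIndex V * C'.relIndex V = C.relIndex V ^ 2))
    exact Nat.le_of_dvd (Nat.pos_of_ne_zero (by
      rw [relIndex]; exact FiniteIndex.index_ne_zero)) (relIndex_dvd_of_le_left V hCW)
  refine le_trans ?_ hi
  have hmul : Nat.card ↥W * W.relIndex V = Nat.card ↥V := by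
    rw [← relIndex_bot_left, relIndex_mul_relIndex _ _ _ bot_le inf_le_left, relIndex_bot_left]
  rw [hbc, ha, show p ^ a = p ^ b * p ^ (a - b) by rw [← pow_add, Nat.add_sub_cancel' hb]] at hmul
  rw [Nat.eq_of_mul_eq_mul_left (pow_pos hp.pos b) hmul]
  exact Nat.pow_le_pow_right hp.pos hN

/-- A nontrivial `p`-element of a faithful group moves `V`. -/
theorem base_bound {V H : Subgroup G} (hV : Cfsg.IsElementaryAbelian p V)
    (hHV : H ≤ normalizer (V : Set G)) (hf : H ⊓ centralizer (V : Set G) = ⊥)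
    {s : G} (hs : s ∈ H) (hso : orderOf s = p) :
    p ^ 2 ≤ Nat.card ↥V ∧ p ≤ (V ⊓ centralizer ({s} : Set G)).relIndex V := by
  have hp : p.Prime := Fact.out
  have hVp : IsPGroup p ↥V := fun v => ⟨1, Subtype.ext (by simpa using hV.2 v v.2)⟩
  set C := V ⊓ centralizer ({s} : Set G) with hC
  obtain ⟨a, ha⟩ := IsPGroup.iff_card.1 hVp
  obtain ⟨b, hb, hbc⟩ := (Nat.dvd_prime_pow hp).1
    (ha ▸ card_dvd_of_le (inf_le_left : C ≤ V))
  have hs1 : s ≠ 1 := fun h => hp.one_lt.ne (by rw [← hso, h, orderOf_one])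
  have hne : b ≠ a := by
    intro h
    have hCV : C = V := eq_of_le_of_card_ge inf_le_left (by rw [hbc, ha, h])
    refine hs1 (mem_bot.1 (hf.le ⟨hs, mem_centralizer_iff.2 fun v hv => ?_⟩))
    have hvC : v ∈ C := hCV.symm ▸ hv
    exact mem_centralizer_singleton_iff.1 hvC.2
  have hd := dvd_card_sub V s (e := 0) hp (by simpa using hso) (hHV hs)
  simp only [pow_zero, pow_one, zero_add] at hd
  rw [← hC, ha, hbc] at hd
  have hb0 : b ≠ 0 := by
    intro h
    rw [h, pow_zero] at hd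
    have h2 : p ∣ p ^ a := dvd_pow_self p (by omega)
    have h3 := Nat.dvd_sub h2 hd
    rw [Nat.sub_sub_self (Nat.one_le_pow _ _ hp.pos)] at h3
    exact hp.one_lt.ne' (Nat.dvd_one.1 h3)
  have hmul : Nat.card ↥C * C.relIndex V = Nat.card ↥V := by
    rw [← relIndex_bot_left, relIndex_mul_relIndex _ _ _ bot_le inf_le_left, relIndex_bot_left]
  rw [hbc, ha, show p ^ a = p ^ b * p ^ (a - b) by rw [← pow_add, Nat.add_sub_cancel' hb]] at hmul
  rw [Nat.eq_of_mul_eq_mul_left (pow_pos hp.pos b) hmul]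
  exact ⟨ha ▸ Nat.pow_le_pow_right hp.pos (by omega),
    (pow_one p).symm.trans_le (Nat.pow_le_pow_right hp.pos (by omega))⟩

end Cfsg.Agent.TwoConjBound
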