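import Cfsg.Agent.Lib.TwoConjBound.SL2
import Cfsg.Agent.Lib.Sz.Partition
import Cfsg.Agent.Lib.Sz.Aut

/-!
In `Sz(q)` every involution has a conjugate such that the product has order divisible by a
primitive prime divisor of `q ^ 4 - 1`.
-/

set_option autoImplicit false

namespace Cfsg.Agent.TwoConjBound

variable {F : Type*} [Field F] [Fintype F] {m : ℕ}

open Cfsg.Agent.SZ in
theorem szInvolution_isConj (hm : 1 ≤ m) (hF : Fintype.card F = 2 ^ (2 * m + 1))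
    {t : Cfsg.Sz F m} (ht : orderOf t = 2) : IsConj (SZ.tS hF 0 1) t := by
  haveI : Fact (Nat.Prime 2) := ⟨Nat.prime_two⟩
  obtain ⟨P, hP⟩ := (IsPGroup.of_card (n := 1) (by rw [Nat.card_zpowers, ht, pow_one]) :
    IsPGroup 2 ↥(Subgroup.zpowers t)).exists_le_sylow
  obtain ⟨g, hg⟩ := exists_conj_eq_uGrp hm hF P
  have h1 : t ∈ (uGrp hF).map (MulAut.conj g).toMonoidHom := hg ▸ hP (Subgroup.mem_zpowers t)
  obtain ⟨x, hx, hxt⟩ := h1
  obtain ⟨a, b, rfl⟩ := (mem_uGrp hF).1 hx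
  have ho : orderOf (tS (m := m) hF a b) = 2 := by
    rw [← ht, ← hxt]
    exact ((MulAut.conj g).orderOf_eq _).symm
  have hsq : tS hF 0 (th m a * a) = tS (m := m) hF 0 0 := by
    rw [← tS_sq hF a b, ← sq, ← ho, pow_orderOf_eq_one]
    exact Subtype.ext T_zero.symm
  have ha : a = 0 := by
    rcases mul_eq_zero.1 (tS_inj hF hsq).2 with h | h
    · exact th_eq_zero.1 h
    · exact h
  subst ha
  have hb : b ≠ 0 := by
    rintro rfl
    rw [show tS (m := m) hF (0 : F) 0 = 1 from Subtype.ext T_zero, orderOf_one] at ho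
    norm_num at ho
  obtain ⟨u, hu⟩ := th_surj (m := m) hF (Units.mk0 b hb)
  refine isConj_iff.2 ⟨g * hS hF u, ?_⟩
  rw [← hxt]
  show g * hS hF u * tS hF 0 1 * (g * hS hF u)⁻¹ = g * tS hF 0 b * g⁻¹
  rw [show g * hS hF u * tS hF 0 1 * (g * hS hF u)⁻¹ = g * (hS hF u * tS hF 0 1 * (hS hF u)⁻¹) * g⁻¹
    by group, hS_conj_tS hF, mul_zero, mul_one, hu, Units.val_mk0]

theorem hasPairs_SZ (hm : 1 ≤ m) (hF : Fintype.card F = 2 ^ (2 * m + 1)) :
    HasPairs 2 (2 * (2 * (2 * m + 1))) (Cfsg.Sz F m) := by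
  intro s hs
  haveI : Fact (Nat.Prime 2) := ⟨Nat.prime_two⟩
  set N := 2 * (2 * (2 * m + 1)) with hN
  obtain ⟨r, hr, hd, hprim⟩ := Zsigmondy.exists_primitive_prime_divisor 2 N one_lt_two
    (by omega) (fun h => by omega) (fun h => by omega)
  have hr2 : r ≠ 2 := by
    rintro rfl
    have h1 : 2 ∣ 2 ^ N := dvd_pow_self 2 (by omega)
    have h3 := Nat.dvd_sub h1 hd
    rw [Nat.sub_sub_self (Nat.one_le_pow _ _ (by norm_num))] at h3
    omega
  -- `r` divides the order of a torus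
  obtain ⟨Up, Um, hUp, hUm, -, -⟩ := SZ.partition (F := F) hm hF
  have hdq : r ∣ (2 ^ (2 * m + 1) + 2 ^ (m + 1) + 1) * (2 ^ (2 * m + 1) - 2 ^ (m + 1) + 1) := by
    rw [SZ.torus_prod hm]
    set Q := (2 ^ (2 * m + 1)) ^ 2 with hQ
    have hQ' : 2 ^ N = Q * Q := by rw [hQ, hN, ← pow_mul, ← pow_add]; congr 1; omega
    have hfac : 2 ^ N - 1 = (Q + 1) * (Q - 1) := by rw [hQ', ← Nat.mul_self_sub_mul_self_eq, mul_one]
    rw [hfac] at hd
    refine (hr.dvd_mul.1 hd).resolve_right fun h => hprim (2 * (2 * m + 1)) (by omega) (by omega) ?_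
    rwa [mul_comm, pow_mul]
  obtain ⟨U, k, hU, hrk, hk⟩ : ∃ (U : Subgroup (Cfsg.Sz F m)) (k : ℕ), SZ.IsTorus U k ∧ r ∣ k ∧
      Odd k := by
    rcases hr.dvd_mul.1 hdq with h | h
    · exact ⟨Up, _, hUp, h, SZ.IsTorusOrder.odd (m := m) (Or.inl rfl)⟩
    · exact ⟨Um, _, hUm, h, SZ.IsTorusOrder.odd (m := m) (Or.inr rfl)⟩
  haveI := Fact.mk hr
  obtain ⟨u, hu⟩ := exists_prime_orderOf_dvd_card' (G := ↥U) r (hU.card.symm ▸ hrk)
  obtain ⟨t, ht⟩ := exists_prime_orderOf_dvd_card' (G := ↥(Subgroup.normalizer (U : Set (Cfsg.Sz F m)))) 2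
    (by rw [hU.normalizer]; omega)
  rw [← Subgroup.orderOf_coe] at hu ht
  have htt : (t : Cfsg.Sz F m) * t = 1 := by rw [← sq, ← ht, pow_orderOf_eq_one]
  have htinv : (t : Cfsg.Sz F m)⁻¹ = t := inv_eq_of_mul_eq_one_right htt
  have htU : (t : Cfsg.Sz F m) ∉ U := fun h => by
    have h1 := Subgroup.orderOf_dvd_natCard U h
    rw [ht, hU.card] at h1
    exact (Nat.not_even_iff_odd.2 hk) (even_iff_two_dvd.2 h1)
  haveI := hU.cyclic
  set v : Cfsg.Sz F m := t * u * (t : Cfsg.Sz F m)⁻¹ with hv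
  have hvU : v ∈ U := (Subgroup.mem_normalizer_iff.1 t.2 _).1 u.2
  have hcomm : v * u = u * v :=
    congrArg Subtype.val ((IsMulCommutative.is_comm (M := ↥U)).comm ⟨v, hvU⟩ u)
  have hvu : v * (u : Cfsg.Sz F m) = 1 := by
    by_contra hne
    refine htU ((hU.cent _ (mul_mem hvU u.2) hne).le (Subgroup.mem_centralizer_singleton_iff.2 ?_))
    have hfix : (t : Cfsg.Sz F m) * (v * u) * (t : Cfsg.Sz F m)⁻¹ = v * u := by
      calc (t : Cfsg.Sz F m) * (v * u) * (t : Cfsg.Sz F m)⁻¹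
          = (t * t) * (u : Cfsg.Sz F m) * (t * t : Cfsg.Sz F m)⁻¹ * v := by rw [hv]; group
        _ = v * u := by rw [htt, one_mul, inv_one, mul_one, hcomm]
    calc (t : Cfsg.Sz F m) * (v * u) = t * (v * u) * (t : Cfsg.Sz F m)⁻¹ * t := by group
      _ = v * u * t := by rw [hfix]
  set t' : Cfsg.Sz F m := (t : Cfsg.Sz F m) * u with ht'
  have ht'o : orderOf t' = 2 := by
    refine orderOf_eq_prime ?_ fun h => htU ?_
    · rw [sq, ht']
      calc (t : Cfsg.Sz F m) * u * (t * u) = t * u * (t : Cfsg.Sz F m)⁻¹ * (t * t) * u := by group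
        _ = 1 := by rw [htt, mul_one, ← hv, hvu]
    · rw [eq_inv_of_mul_eq_one_left h]; exact inv_mem u.2
  have c1 := (szInvolution_isConj hm hF ht).symm.trans (szInvolution_isConj hm hF hs)
  obtain ⟨h, hh⟩ := isConj_iff.1 c1
  obtain ⟨g, hg⟩ := isConj_iff.1 ((szInvolution_isConj hm hF ht).symm.trans (szInvolution_isConj hm hF ht'o))
  refine ⟨h * g * h⁻¹, r, 0, hr, hr2, by simpa using hprim, ?_⟩
  have he : s * (h * g * h⁻¹ * s * (h * g * h⁻¹)⁻¹) = MulAut.conj h (u : Cfsg.Sz F m) := by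
    rw [MulAut.conj_apply, ← hh]
    calc h * (t : Cfsg.Sz F m) * h⁻¹ * (h * g * h⁻¹ * (h * t * h⁻¹) * (h * g * h⁻¹)⁻¹)
        = h * ((t : Cfsg.Sz F m) * (g * t * g⁻¹)) * h⁻¹ := by group
      _ = h * (u : Cfsg.Sz F m) * h⁻¹ := by rw [hg, ht', ← mul_assoc (t : Cfsg.Sz F m), htt, one_mul]
  rw [he, MulEquiv.orderOf_eq, hu, zero_add, pow_one]

end Cfsg.Agent.TwoConjBound
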