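import Cfsg.Prelude.Def_Classical
import Cfsg.Agent.Lib.GL.UnitaryOrders

/-!
`SU₃(q)` for the standard hermitian form: hyperbolic frames, transvections and their conjugacy.
-/

set_option autoImplicit false

namespace Cfsg.Agent.TwoConjBound.U3

open Matrix
open Cfsg.Agent.Forms (qEnd qEnd_apply qEnd_qEnd one_lt_q)

variable {F : Type*} [Field F] [Fintype F] {q : ℕ} (hF : Fintype.card F = q ^ 2)

local notation "V3" => Fin 3 → F
local notation "M3" => Matrix (Fin 3) (Fin 3) F
local notation "h" => Cfsg.hermForm 3 F q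
local notation "σ" => qEnd hF
set_option quotPrecheck false in
local notation "SU3" => ↥(Cfsg.SU 3 F q)

/-- The matrix of an element. -/
def mat (g : SU3) : M3 := ((g : Matrix.SpecialLinearGroup (Fin 3) F) : M3)

theorem mat_mul (g g' : SU3) : mat (g * g') = mat g * mat g' := rfl

theorem mat_one : mat (1 : SU3) = 1 := rfl

theorem mat_pow (g : SU3) (n : ℕ) : mat (g ^ n) = mat g ^ n := by
  simp [mat, Subgroup.coe_pow, Matrix.SpecialLinearGroup.coe_pow]

theorem mat_inj {g g' : SU3} (e : mat g = mat g') : g = g' := Subtype.ext (Subtype.ext e)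

theorem det_mat (g : SU3) : (mat g).det = 1 := (g : Matrix.SpecialLinearGroup (Fin 3) F).2

theorem preserves (g : SU3) (u v : V3) : h (mat g *ᵥ u) (mat g *ᵥ v) = h u v := g.2 u v

theorem inv_mulVec (g : SU3) (u : V3) : mat g *ᵥ (mat g⁻¹ *ᵥ u) = u := by
  rw [mulVec_mulVec, ← mat_mul, mul_inv_cancel, mat_one, one_mulVec]

def ofMat (A : M3) (hd : A.det = 1) (hA : ∀ u v, h (A *ᵥ u) (A *ᵥ v) = h u v) : SU3 :=
  ⟨⟨A, hd⟩, hA⟩

theorem mat_ofMat (A : M3) (hd : A.det = 1) (hA : ∀ u v, h (A *ᵥ u) (A *ᵥ v) = h u v) :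
    mat (ofMat A hd hA) = A := rfl

theorem h_apply (u v : V3) :
    h u v = u 0 * σ (v 0) + u 1 * σ (v 1) + u 2 * σ (v 2) := by
  simp [Cfsg.hermForm, Fin.sum_univ_three, qEnd_apply]

include hF in
theorem isSesq : GL.IsReflexiveSesq σ h := GL.isReflexiveSesq_hermForm hF 3

include hF in
theorem h_symm (u v : V3) : σ (h u v) = h v u := by
  rw [h_apply hF, h_apply hF]
  simp only [map_add, map_mul, qEnd_qEnd hF]
  ring

include hF in
theorem h_zero_left (v : V3) : h 0 v = 0 := by simp [h_apply hF]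

include hF in
theorem h_zero_right (v : V3) : h v 0 = 0 := by simp [h_apply hF]

include hF in
theorem h_sub_left (u u' v : V3) : h (u - u') v = h u v - h u' v := by
  simp [h_apply hF]; ring

include hF in
theorem exists_skew : ∃ a : F, a ≠ 0 ∧ a + σ a = 0 := by
  obtain ⟨l, hl⟩ : ∃ l : F, σ l ≠ l := by
    by_contra hh
    push_neg at hh
    exact Forms.qEnd_ne_id hF (RingHom.ext hh)
  exact ⟨l - σ l, sub_ne_zero.2 (Ne.symm hl), by rw [map_sub, qEnd_qEnd hF]; ring⟩

include hF in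
theorem exists_trace {c : F} (hc : σ c = c) : ∃ x : F, x + σ x = c := by
  obtain ⟨x₀, hx₀⟩ : ∃ x₀ : F, x₀ + σ x₀ ≠ 0 := by
    by_contra hh
    push_neg at hh
    refine Forms.qEnd_ne_id hF (RingHom.ext fun x => ?_)
    have h1 := hh 1
    rw [map_one] at h1
    have h2 := hh x
    show σ x = x
    linear_combination h2 - x * h1
  refine ⟨c * x₀ / (x₀ + σ x₀), ?_⟩
  have hs : σ (x₀ + σ x₀) = x₀ + σ x₀ := by rw [map_add, qEnd_qEnd hF]; ring
  rw [map_div₀, map_mul, hs, hc, ← add_div, ← mul_add, mul_div_assoc, div_self hx₀, mul_one]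

include hF in
theorem exists_norm {c : F} (hc : σ c = c) : ∃ x : F, x * σ x = c := by
  by_cases h0 : c = 0
  · exact ⟨0, by simp [h0]⟩
  obtain ⟨x, -, hx⟩ := Forms.exists_norm_eq hF h0 hc
  exact ⟨x, by rw [qEnd_apply hF, ← hx, pow_succ']⟩

/-! ### Frames -/

/-- A hyperbolic frame `(e, w, f)`. -/
structure IsFrame (e w f : V3) : Prop where
  ee : h e e = 0
  ff : h f f = 0
  ef : h e f = 1
  ew : h e w = 0
  fw : h f w = 0
  ww : h w w = 1

/-- The matrix with columns `e, w, f`. -/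
def cols (e w f : V3) : M3 := (Matrix.of ![e, w, f])ᵀ

theorem cols_mulVec (e w f x : V3) : cols e w f *ᵥ x = x 0 • e + x 1 • w + x 2 • f := by
  ext i
  simp [cols, Matrix.mulVec, dotProduct, Fin.sum_univ_three]
  ring

theorem mul_cols (A : M3) (e w f : V3) : A * cols e w f = cols (A *ᵥ e) (A *ᵥ w) (A *ᵥ f) := by
  ext i j
  fin_cases j <;> simp [cols, Matrix.mul_apply, Matrix.mulVec, dotProduct, Fin.sum_univ_three]

include hF in
theorem IsFrame.symm' {e w f : V3} (hf : IsFrame (q := q) e w f) :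
    h f e = 1 ∧ h w e = 0 ∧ h w f = 0 := by
  refine ⟨?_, ?_, ?_⟩
  · rw [← h_symm hF e f, hf.ef, map_one]
  · rw [← h_symm hF e w, hf.ew, map_zero]
  · rw [← h_symm hF f w, hf.fw, map_zero]

include hF in
theorem IsFrame.h_cols {e w f : V3} (hf : IsFrame (q := q) e w f) (x y : V3) :
    h (cols e w f *ᵥ x) (cols e w f *ᵥ y) = x 0 * σ (y 2) + x 1 * σ (y 1) + x 2 * σ (y 0) := by
  obtain ⟨fe, we, wf⟩ := hf.symm' hF
  have hs := isSesq hF
  simp only [cols_mulVec, hs.add_left, hs.add_right, hs.smul_left, hs.smul_right, hf.ee, hf.ff,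
    hf.ef, hf.ew, hf.fw, hf.ww, fe, we, wf]
  ring

include hF in
theorem IsFrame.isUnit {e w f : V3} (hf : IsFrame (q := q) e w f) : IsUnit (cols e w f) := by
  rw [← Matrix.mulVec_injective_iff_isUnit]
  intro x y hxy
  have key : ∀ z : V3, z 0 * σ 0 + z 1 * σ 0 + z 2 * σ 1 = z 2 ∧
      z 0 * σ 0 + z 1 * σ 1 + z 2 * σ 0 = z 1 ∧ z 0 * σ 1 + z 1 * σ 0 + z 2 * σ 0 = z 0 := by
    intro z; simp
  have hh : ∀ z, h (cols e w f *ᵥ x) (cols e w f *ᵥ z) = h (cols e w f *ᵥ y) (cols e w f *ᵥ z) :=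
    fun z => by rw [hxy]
  have h0 := hh ![1, 0, 0]
  have h1 := hh ![0, 1, 0]
  have h2 := hh ![0, 0, 1]
  simp [hf.h_cols hF] at h0 h1 h2
  funext i
  fin_cases i
  exacts [h2, h1, h0]

include hF in
/-- Coordinates with respect to a frame. -/
theorem IsFrame.expand {e w f : V3} (hf : IsFrame (q := q) e w f) (x : V3) :
    x = h x f • e + h x w • w + h x e • f := by
  obtain ⟨z, rfl⟩ := (Matrix.mulVec_surjective_iff_isUnit.2 (hf.isUnit hF)) x
  have h0 : h (cols e w f *ᵥ z) e = z 2 := by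
    have := hf.h_cols hF z ![1, 0, 0]
    simpa [cols_mulVec] using this
  have h1 : h (cols e w f *ᵥ z) w = z 1 := by
    have := hf.h_cols hF z ![0, 1, 0]
    simpa [cols_mulVec] using this
  have h2 : h (cols e w f *ᵥ z) f = z 0 := by
    have := hf.h_cols hF z ![0, 0, 1]
    simpa [cols_mulVec] using this
  rw [h0, h1, h2, cols_mulVec]

include hF in
theorem IsFrame.ext {e w f : V3} (hf : IsFrame (q := q) e w f) {g g' : SU3}
    (he : mat g *ᵥ e = mat g' *ᵥ e) (hw : mat g *ᵥ w = mat g' *ᵥ w)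
    (hff : mat g *ᵥ f = mat g' *ᵥ f) : g = g' := by
  apply mat_inj
  refine (hf.isUnit hF).mul_right_cancel ?_
  rw [mul_cols, mul_cols, he, hw, hff]

include hF in
theorem IsFrame.norm_det {e w f : V3} (hf : IsFrame (q := q) e w f) :
    (cols e w f).det * σ (cols e w f).det = -1 := by
  set M := cols e w f
  have hJ : Mᵀ * M.map σ = !![0, 0, 1; 0, 1, 0; 1, 0, 0] := by
    ext i j
    have := hf.h_cols hF (Pi.single i 1) (Pi.single j 1)
    rw [h_apply hF] at this
    simp only [Matrix.mulVec_single_one, Matrix.col_apply] at this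
    simp only [Matrix.mul_apply, Matrix.transpose_apply, Matrix.map_apply, Fin.sum_univ_three]
    rw [this]
    fin_cases i <;> fin_cases j <;> simp
  have := congrArg Matrix.det hJ
  rw [Matrix.det_mul, Matrix.det_transpose] at this
  rw [show σ M.det = (M.map σ).det from RingHom.map_det σ M, this]
  simp [Matrix.det_fin_three]

include hF in
/-- Two frames of equal determinant are related by an element of `SU₃`. -/
theorem exists_map {e w f e' w' f' : V3} (hf : IsFrame (q := q) e w f)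
    (hf' : IsFrame (q := q) e' w' f') (hd : (cols e' w' f').det = (cols e w f).det) :
    ∃ g : SU3, mat g *ᵥ e = e' ∧ mat g *ᵥ w = w' ∧ mat g *ᵥ f = f' := by
  set M := cols e w f with hM
  set M' := cols e' w' f' with hM'
  have hu := hf.isUnit hF
  have hdu : IsUnit M.det := (Matrix.isUnit_iff_isUnit_det M).1 hu
  have hdet : (M' * M⁻¹).det = 1 := by
    rw [Matrix.det_mul, Matrix.det_nonsing_inv, hd, Ring.mul_inverse_cancel _ hdu]
  have hpres : ∀ u v, h ((M' * M⁻¹) *ᵥ u) ((M' * M⁻¹) *ᵥ v) = h u v := by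
    intro u v
    obtain ⟨x, rfl⟩ := (Matrix.mulVec_surjective_iff_isUnit.2 hu) u
    obtain ⟨y, rfl⟩ := (Matrix.mulVec_surjective_iff_isUnit.2 hu) v
    rw [mulVec_mulVec, mulVec_mulVec, Matrix.nonsing_inv_mul_cancel_right _ _ hdu,
      hf'.h_cols hF, hf.h_cols hF]
  have happ : ∀ x, (M' * M⁻¹) *ᵥ (M *ᵥ x) = M' *ᵥ x := fun x => by
    rw [mulVec_mulVec, Matrix.nonsing_inv_mul_cancel_right _ _ hdu]
  refine ⟨ofMat _ hdet hpres, ?_, ?_, ?_⟩
  · simpa [mat_ofMat, hM, hM', cols_mulVec] using happ ![1, 0, 0]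
  · simpa [mat_ofMat, hM, hM', cols_mulVec] using happ ![0, 1, 0]
  · simpa [mat_ofMat, hM, hM', cols_mulVec] using happ ![0, 0, 1]

include hF in
theorem exists_frame {e : V3} (he0 : e ≠ 0) (hee : h e e = 0) :
    ∃ w f : V3, IsFrame (q := q) e w f := by
  have hs := isSesq hF
  obtain ⟨y', hye⟩ : ∃ y' : V3, h y' e = 1 := by
    obtain ⟨y, hy⟩ : ∃ y : V3, h y e ≠ 0 := by
      by_contra hh
      push_neg at hh
      exact he0 (hs.nondeg e hh)
    exact ⟨(h y e)⁻¹ • y, by rw [hs.smul_left, inv_mul_cancel₀ hy]⟩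
  have hey : h e y' = 1 := by rw [← h_symm hF y' e, hye, map_one]
  obtain ⟨t, ht⟩ := exists_trace hF (c := -h y' y') (by rw [map_neg, h_symm hF])
  set f := y' + t • e with hf
  have hef : h e f = 1 := by rw [hf, hs.add_right, hs.smul_right, hey, hee, mul_zero, add_zero]
  have hff : h f f = 0 := by
    rw [hf, hs.add_left, hs.add_right, hs.add_right, hs.smul_left, hs.smul_left, hs.smul_right,
      hs.smul_right, hye, hey, hee]
    linear_combination ht
  have hfe : h f e = 1 := by rw [← h_symm hF e f, hef, map_one]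
  set z : V3 := fun i => σ (crossProduct e f i) with hz
  have hez : h e z = 0 := by
    simp [h_apply hF, hz, qEnd_qEnd hF, cross_apply]; ring
  have hfz : h f z = 0 := by
    simp [h_apply hF, hz, qEnd_qEnd hF, cross_apply]; ring
  have hzz : h z z = -1 := by
    have hlag : h z z = h e e * h f f - h e f * h f e := by
      simp [h_apply hF, hz, qEnd_qEnd hF, cross_apply, map_sub, map_mul]
      ring
    rw [hlag, hee, hef, hfe]; ring
  obtain ⟨μ, hμ⟩ := exists_norm hF (c := -1) (by rw [map_neg, map_one])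
  refine ⟨μ • z, f, ⟨hee, hff, hef, ?_, ?_, ?_⟩⟩
  · rw [hs.smul_right, hez, mul_zero]
  · rw [hs.smul_right, hfz, mul_zero]
  · rw [hs.smul_left, hs.smul_right, hzz]
    linear_combination -hμ

include hF in
/-- `SU₃` is transitive on isotropic vectors. -/
theorem exists_map_isotropic {e v : V3} (he0 : e ≠ 0) (hee : h e e = 0) (hv0 : v ≠ 0)
    (hvv : h v v = 0) : ∃ g : SU3, mat g *ᵥ e = v := by
  obtain ⟨w, f, hf⟩ := exists_frame hF he0 hee
  obtain ⟨w', f', hf'⟩ := exists_frame hF hv0 hvv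
  have hs := isSesq hF
  set μ := (cols e w f).det / (cols v w' f').det with hμ
  have hn := hf.norm_det hF
  have hn' := hf'.norm_det hF
  have hd0 : (cols v w' f').det ≠ 0 := fun e0 => by rw [e0] at hn'; simp at hn'
  have hμn : μ * σ μ = 1 := by
    rw [hμ, map_div₀, div_mul_div_comm, hn, hn', div_self (neg_ne_zero.2 one_ne_zero)]
  have hf'' : IsFrame (q := q) v (μ • w') f' := by
    refine ⟨hf'.ee, hf'.ff, hf'.ef, ?_, ?_, ?_⟩
    · rw [hs.smul_right, hf'.ew, mul_zero]
    · rw [hs.smul_right, hf'.fw, mul_zero]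
    · rw [hs.smul_left, hs.smul_right, hf'.ww, mul_one, hμn]
  have hdet : (cols v (μ • w') f').det = μ * (cols v w' f').det := by
    simp [cols, Matrix.det_fin_three]; ring
  obtain ⟨g, hg, -, -⟩ := exists_map hF hf hf'' (by rw [hdet, hμ, div_mul_cancel₀ _ hd0])
  exact ⟨g, hg⟩

include hF in
/-- The unipotent element of parameter `c` of a frame. -/
theorem exists_unipotent {e w f : V3} (hf : IsFrame (q := q) e w f) (c : F) :
    ∃ (g : SU3) (δ : F), mat g *ᵥ e = e ∧ mat g *ᵥ w = w + c • e ∧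
      mat g *ᵥ f = f + (-σ c) • w + δ • e := by
  have hs := isSesq hF
  obtain ⟨fe, we, wf⟩ := hf.symm' hF
  obtain ⟨δ, hδ⟩ := exists_trace hF (c := -(c * σ c))
    (by rw [map_neg, map_mul, qEnd_qEnd hF, mul_comm])
  have hf' : IsFrame (q := q) e (w + c • e) (f + (-σ c) • w + δ • e) := by
    refine ⟨hf.ee, ?_, ?_, ?_, ?_, ?_⟩ <;>
      simp only [hs.add_left, hs.add_right, hs.smul_left, hs.smul_right, hf.ee, hf.ff, hf.ef, hf.ew,
        hf.fw, hf.ww, fe, we, wf, map_neg, qEnd_qEnd hF]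
    · linear_combination hδ
    all_goals ring
  obtain ⟨g, hge, hgw, hgf⟩ := exists_map hF hf hf' (by simp [cols, Matrix.det_fin_three]; ring)
  exact ⟨g, δ, hge, hgw, hgf⟩

/-! ### Transvections -/

/-- The matrix of a transvection. -/
def tvMat (a : F) (v : V3) : M3 := 1 + a • vecMulVec v (fun i => σ (v i))

theorem dot_conj (v x : V3) : (fun i => σ (v i)) ⬝ᵥ x = h x v := by
  rw [h_apply hF, dotProduct, Fin.sum_univ_three]; ring

theorem tvMat_mulVec (a : F) (v x : V3) : tvMat hF a v *ᵥ x = x + (a * h x v) • v := by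
  rw [tvMat, add_mulVec, one_mulVec, smul_mulVec, vecMulVec_mulVec, dot_conj]
  ext i
  simp [mul_assoc, mul_comm, mul_left_comm]

theorem det_tvMat {a : F} {v : V3} (hv : h v v = 0) : (tvMat hF a v).det = 1 := by
  rw [tvMat, show a • vecMulVec v (fun i => σ (v i)) =
      replicateCol Unit (a • v) * replicateRow Unit (fun i => σ (v i)) by
    rw [← vecMulVec_eq, smul_vecMulVec], det_one_add_replicateCol_mul_replicateRow,
    dotProduct_smul, dot_conj, hv, smul_zero, add_zero]

/-- A transvection as an element of `SU₃`. -/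
def tv (a : F) (v : V3) (ha : a + σ a = 0) (hv : h v v = 0) : SU3 :=
  ofMat (tvMat hF a v) (det_tvMat hF hv) fun x y => by
    have hs := isSesq hF
    simp only [tvMat_mulVec, hs.add_left, hs.add_right, hs.smul_left, hs.smul_right, hv, map_mul,
      h_symm hF]
    linear_combination (h x v * h v y) * ha

theorem mat_tv (a : F) (v : V3) (ha : a + σ a = 0) (hv : h v v = 0) :
    mat (tv hF a v ha hv) = tvMat hF a v := rfl

theorem tv_ne_one {a : F} {v : V3} (ha : a + σ a = 0) (hv : h v v = 0) (ha0 : a ≠ 0) (hv0 : v ≠ 0) :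
    tv hF a v ha hv ≠ 1 := by
  intro e
  obtain ⟨y, hy⟩ : ∃ y : V3, h y v ≠ 0 := by
    by_contra hh
    push_neg at hh
    exact hv0 ((isSesq hF).nondeg v hh)
  have := congrArg (fun g => mat g *ᵥ y) e
  simp only [mat_tv, tvMat_mulVec, mat_one, one_mulVec, add_eq_left, smul_eq_zero] at this
  rcases this with h1 | h1
  · exact mul_ne_zero ha0 hy h1
  · exact hv0 h1

theorem tv_conj {a b : F} {v u : V3} (ha : a + σ a = 0) (hv : h v v = 0) (hb : b + σ b = 0)
    (hu : h u u = 0) (g : SU3) {l : F} (hg : mat g *ᵥ v = l • u) (hl : a * (l * σ l) = b) :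
    g * tv hF a v ha hv * g⁻¹ = tv hF b u hb hu := by
  rw [mul_inv_eq_iff_eq_mul]
  apply mat_inj
  apply ext_of_mulVec_single
  intro i
  set x : V3 := Pi.single i 1
  rw [mat_mul, mat_mul, ← mulVec_mulVec, ← mulVec_mulVec, mat_tv, mat_tv, tvMat_mulVec,
    tvMat_mulVec, mulVec_add, mulVec_smul, hg, smul_smul]
  have h1 : h (mat g *ᵥ x) (l • u) = h x v := by rw [← hg, preserves]
  rw [(isSesq hF).smul_right] at h1
  congr 2
  rw [← h1, ← hl]
  ring

include hF in
/-- All nontrivial transvections are conjugate. -/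
theorem tv_isConj {a b : F} {v u : V3} (ha : a + σ a = 0) (hv : h v v = 0) (hb : b + σ b = 0)
    (hu : h u u = 0) (ha0 : a ≠ 0) (hb0 : b ≠ 0) (hv0 : v ≠ 0) (hu0 : u ≠ 0) :
    IsConj (tv hF a v ha hv) (tv hF b u hb hu) := by
  obtain ⟨l, hl⟩ := exists_norm hF (c := b / a) (by
    rw [map_div₀, show σ b = -b by linear_combination hb, show σ a = -a by linear_combination ha,
      neg_div_neg_eq])
  have hl0 : l ≠ 0 := by
    rintro rfl
    exact div_ne_zero hb0 ha0 (by rw [← hl, zero_mul])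
  have hs := isSesq hF
  obtain ⟨g, hg⟩ := exists_map_isotropic hF hv0 hv (smul_ne_zero hl0 hu0)
    (by rw [hs.smul_left, hs.smul_right, hu, mul_zero, mul_zero])
  exact isConj_iff.2 ⟨g, tv_conj hF ha hv hb hu g hg (by rw [hl, mul_div_cancel₀ _ ha0])⟩

end Cfsg.Agent.TwoConjBound.U3
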